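import Cfsg.Agent.Lib.Fi23Max.DataD

set_option autoImplicit false

set_option linter.all false

namespace CfsgLib.Fi23Max

open CfsgLib.CosetEnum
open CfsgLib.CosetEnum.Fi23 (table zCol)

theorem fixOK1_0 : allFrom (fun k => pFix fix1 249 1237 2146 k) 2048 0 = true := by decide +kernel

theorem fixOK1_2048 : allFrom (fun k => pFix fix1 249 1237 2146 k) 2048 2048 = true := by decide +kernel

theorem fixOK1_4096 : allFrom (fun k => pFix fix1 249 1237 2146 k) 2048 4096 = true := by decide +kernel

theorem fixOK1_6144 : allFrom (fun k => pFix fix1 249 1237 2146 k) 2048 6144 = true := by decide +kernel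

theorem fixOK1_8192 : allFrom (fun k => pFix fix1 249 1237 2146 k) 2048 8192 = true := by decide +kernel

theorem fixOK1_10240 : allFrom (fun k => pFix fix1 249 1237 2146 k) 2048 10240 = true := by decide +kernel

theorem fixOK1_12288 : allFrom (fun k => pFix fix1 249 1237 2146 k) 2048 12288 = true := by decide +kernel

theorem fixOK1_14336 : allFrom (fun k => pFix fix1 249 1237 2146 k) 2048 14336 = true := by decide +kernel

theorem fixOK1_16384 : allFrom (fun k => pFix fix1 249 1237 2146 k) 2048 16384 = true := by decide +kernel

theorem fixOK1_18432 : allFrom (fun k => pFix fix1 249 1237 2146 k) 2048 18432 = true := by decide +kernel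

theorem fixOK1_20480 : allFrom (fun k => pFix fix1 249 1237 2146 k) 2048 20480 = true := by decide +kernel

theorem fixOK1_22528 : allFrom (fun k => pFix fix1 249 1237 2146 k) 2048 22528 = true := by decide +kernel

theorem fixOK1_24576 : allFrom (fun k => pFix fix1 249 1237 2146 k) 2048 24576 = true := by decide +kernel

theorem fixOK1_26624 : allFrom (fun k => pFix fix1 249 1237 2146 k) 2048 26624 = true := by decide +kernel

theorem fixOK1_28672 : allFrom (fun k => pFix fix1 249 1237 2146 k) 2048 28672 = true := by decide +kernel

theorem fixOK1_30720 : allFrom (fun k => pFix fix1 249 1237 2146 k) 951 30720 = true := by decide +kernel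

theorem fixOK2_0 : allFrom (fun k => pFix fix2 202 1969 2354 k) 2048 0 = true := by decide +kernel

theorem fixOK2_2048 : allFrom (fun k => pFix fix2 202 1969 2354 k) 2048 2048 = true := by decide +kernel

theorem fixOK2_4096 : allFrom (fun k => pFix fix2 202 1969 2354 k) 2048 4096 = true := by decide +kernel

theorem fixOK2_6144 : allFrom (fun k => pFix fix2 202 1969 2354 k) 2048 6144 = true := by decide +kernel

theorem fixOK2_8192 : allFrom (fun k => pFix fix2 202 1969 2354 k) 2048 8192 = true := by decide +kernel

theorem fixOK2_10240 : allFrom (fun k => pFix fix2 202 1969 2354 k) 2048 10240 = true := by decide +kernel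

theorem fixOK2_12288 : allFrom (fun k => pFix fix2 202 1969 2354 k) 2048 12288 = true := by decide +kernel

theorem fixOK2_14336 : allFrom (fun k => pFix fix2 202 1969 2354 k) 2048 14336 = true := by decide +kernel

theorem fixOK2_16384 : allFrom (fun k => pFix fix2 202 1969 2354 k) 2048 16384 = true := by decide +kernel

theorem fixOK2_18432 : allFrom (fun k => pFix fix2 202 1969 2354 k) 2048 18432 = true := by decide +kernel

theorem fixOK2_20480 : allFrom (fun k => pFix fix2 202 1969 2354 k) 2048 20480 = true := by decide +kernel

theorem fixOK2_22528 : allFrom (fun k => pFix fix2 202 1969 2354 k) 2048 22528 = true := by decide +kernel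

theorem fixOK2_24576 : allFrom (fun k => pFix fix2 202 1969 2354 k) 2048 24576 = true := by decide +kernel

theorem fixOK2_26624 : allFrom (fun k => pFix fix2 202 1969 2354 k) 2048 26624 = true := by decide +kernel

theorem fixOK2_28672 : allFrom (fun k => pFix fix2 202 1969 2354 k) 2048 28672 = true := by decide +kernel

theorem fixOK2_30720 : allFrom (fun k => pFix fix2 202 1969 2354 k) 951 30720 = true := by decide +kernel

end CfsgLib.Fi23Max
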