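import Cfsg.Agent.Lib.Fi23Max.DataD

set_option autoImplicit false

set_option linter.all false

namespace CfsgLib.Fi23Max

open CfsgLib.CosetEnum
open CfsgLib.CosetEnum.Fi23 (table zCol)

theorem fixOK3_0 : allFrom (fun k => pFix fix3 620 15335 17551 k) 2048 0 = true := by decide +kernel

theorem fixOK3_2048 : allFrom (fun k => pFix fix3 620 15335 17551 k) 2048 2048 = true := by decide +kernel

theorem fixOK3_4096 : allFrom (fun k => pFix fix3 620 15335 17551 k) 2048 4096 = true := by decide +kernel

theorem fixOK3_6144 : allFrom (fun k => pFix fix3 620 15335 17551 k) 2048 6144 = true := by decide +kernel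

theorem fixOK3_8192 : allFrom (fun k => pFix fix3 620 15335 17551 k) 2048 8192 = true := by decide +kernel

theorem fixOK3_10240 : allFrom (fun k => pFix fix3 620 15335 17551 k) 2048 10240 = true := by decide +kernel

theorem fixOK3_12288 : allFrom (fun k => pFix fix3 620 15335 17551 k) 2048 12288 = true := by decide +kernel

theorem fixOK3_14336 : allFrom (fun k => pFix fix3 620 15335 17551 k) 2048 14336 = true := by decide +kernel

theorem fixOK3_16384 : allFrom (fun k => pFix fix3 620 15335 17551 k) 2048 16384 = true := by decide +kernel

theorem fixOK3_18432 : allFrom (fun k => pFix fix3 620 15335 17551 k) 2048 18432 = true := by decide +kernel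

theorem fixOK3_20480 : allFrom (fun k => pFix fix3 620 15335 17551 k) 2048 20480 = true := by decide +kernel

theorem fixOK3_22528 : allFrom (fun k => pFix fix3 620 15335 17551 k) 2048 22528 = true := by decide +kernel

theorem fixOK3_24576 : allFrom (fun k => pFix fix3 620 15335 17551 k) 2048 24576 = true := by decide +kernel

theorem fixOK3_26624 : allFrom (fun k => pFix fix3 620 15335 17551 k) 2048 26624 = true := by decide +kernel

theorem fixOK3_28672 : allFrom (fun k => pFix fix3 620 15335 17551 k) 2048 28672 = true := by decide +kernel

theorem fixOK3_30720 : allFrom (fun k => pFix fix3 620 15335 17551 k) 951 30720 = true := by decide +kernel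

theorem fixOK4_0 : allFrom (fun k => pFix fix4 621 5492 16531 k) 2048 0 = true := by decide +kernel

theorem fixOK4_2048 : allFrom (fun k => pFix fix4 621 5492 16531 k) 2048 2048 = true := by decide +kernel

theorem fixOK4_4096 : allFrom (fun k => pFix fix4 621 5492 16531 k) 2048 4096 = true := by decide +kernel

theorem fixOK4_6144 : allFrom (fun k => pFix fix4 621 5492 16531 k) 2048 6144 = true := by decide +kernel

theorem fixOK4_8192 : allFrom (fun k => pFix fix4 621 5492 16531 k) 2048 8192 = true := by decide +kernel

theorem fixOK4_10240 : allFrom (fun k => pFix fix4 621 5492 16531 k) 2048 10240 = true := by decide +kernel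

theorem fixOK4_12288 : allFrom (fun k => pFix fix4 621 5492 16531 k) 2048 12288 = true := by decide +kernel

theorem fixOK4_14336 : allFrom (fun k => pFix fix4 621 5492 16531 k) 2048 14336 = true := by decide +kernel

theorem fixOK4_16384 : allFrom (fun k => pFix fix4 621 5492 16531 k) 2048 16384 = true := by decide +kernel

theorem fixOK4_18432 : allFrom (fun k => pFix fix4 621 5492 16531 k) 2048 18432 = true := by decide +kernel

theorem fixOK4_20480 : allFrom (fun k => pFix fix4 621 5492 16531 k) 2048 20480 = true := by decide +kernel

theorem fixOK4_22528 : allFrom (fun k => pFix fix4 621 5492 16531 k) 2048 22528 = true := by decide +kernel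

theorem fixOK4_24576 : allFrom (fun k => pFix fix4 621 5492 16531 k) 2048 24576 = true := by decide +kernel

theorem fixOK4_26624 : allFrom (fun k => pFix fix4 621 5492 16531 k) 2048 26624 = true := by decide +kernel

theorem fixOK4_28672 : allFrom (fun k => pFix fix4 621 5492 16531 k) 2048 28672 = true := by decide +kernel

theorem fixOK4_30720 : allFrom (fun k => pFix fix4 621 5492 16531 k) 951 30720 = true := by decide +kernel

theorem fixOK5_0 : allFrom (fun k => pFix fix5 287 14309 22087 k) 2048 0 = true := by decide +kernel

theorem fixOK5_2048 : allFrom (fun k => pFix fix5 287 14309 22087 k) 2048 2048 = true := by decide +kernel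

theorem fixOK5_4096 : allFrom (fun k => pFix fix5 287 14309 22087 k) 2048 4096 = true := by decide +kernel

theorem fixOK5_6144 : allFrom (fun k => pFix fix5 287 14309 22087 k) 2048 6144 = true := by decide +kernel

theorem fixOK5_8192 : allFrom (fun k => pFix fix5 287 14309 22087 k) 2048 8192 = true := by decide +kernel

theorem fixOK5_10240 : allFrom (fun k => pFix fix5 287 14309 22087 k) 2048 10240 = true := by decide +kernel

theorem fixOK5_12288 : allFrom (fun k => pFix fix5 287 14309 22087 k) 2048 12288 = true := by decide +kernel

theorem fixOK5_14336 : allFrom (fun k => pFix fix5 287 14309 22087 k) 2048 14336 = true := by decide +kernel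

theorem fixOK5_16384 : allFrom (fun k => pFix fix5 287 14309 22087 k) 2048 16384 = true := by decide +kernel

theorem fixOK5_18432 : allFrom (fun k => pFix fix5 287 14309 22087 k) 2048 18432 = true := by decide +kernel

theorem fixOK5_20480 : allFrom (fun k => pFix fix5 287 14309 22087 k) 2048 20480 = true := by decide +kernel

theorem fixOK5_22528 : allFrom (fun k => pFix fix5 287 14309 22087 k) 2048 22528 = true := by decide +kernel

theorem fixOK5_24576 : allFrom (fun k => pFix fix5 287 14309 22087 k) 2048 24576 = true := by decide +kernel

theorem fixOK5_26624 : allFrom (fun k => pFix fix5 287 14309 22087 k) 2048 26624 = true := by decide +kernel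

theorem fixOK5_28672 : allFrom (fun k => pFix fix5 287 14309 22087 k) 2048 28672 = true := by decide +kernel

theorem fixOK5_30720 : allFrom (fun k => pFix fix5 287 14309 22087 k) 951 30720 = true := by decide +kernel

end CfsgLib.Fi23Max
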