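import Cfsg.Agent.Lib.Fi23Max.DataD

set_option autoImplicit false

set_option linter.all false

namespace CfsgLib.Fi23Max

open CfsgLib.CosetEnum
open CfsgLib.CosetEnum.Fi23 (table zCol)

theorem kcolOK_8192 : allFrom (fun k => pK k) 1024 8192 = true := by decide +kernel

theorem kcolOK_9216 : allFrom (fun k => pK k) 1024 9216 = true := by decide +kernel

theorem kcolOK_10240 : allFrom (fun k => pK k) 1024 10240 = true := by decide +kernel

theorem kcolOK_11264 : allFrom (fun k => pK k) 1024 11264 = true := by decide +kernel

theorem kcolOK_12288 : allFrom (fun k => pK k) 1024 12288 = true := by decide +kernel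

theorem kcolOK_13312 : allFrom (fun k => pK k) 1024 13312 = true := by decide +kernel

theorem kcolOK_14336 : allFrom (fun k => pK k) 1024 14336 = true := by decide +kernel

theorem kcolOK_15360 : allFrom (fun k => pK k) 1024 15360 = true := by decide +kernel

end CfsgLib.Fi23Max
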