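import Cfsg.Agent.Lib.Fi23Max.DataD

set_option autoImplicit false

set_option linter.all false

namespace CfsgLib.Fi23Max

open CfsgLib.CosetEnum
open CfsgLib.CosetEnum.Fi23 (table zCol)

theorem kcolOK_16384 : allFrom (fun k => pK k) 1024 16384 = true := by decide +kernel

theorem kcolOK_17408 : allFrom (fun k => pK k) 1024 17408 = true := by decide +kernel

theorem kcolOK_18432 : allFrom (fun k => pK k) 1024 18432 = true := by decide +kernel

theorem kcolOK_19456 : allFrom (fun k => pK k) 1024 19456 = true := by decide +kernel

theorem kcolOK_20480 : allFrom (fun k => pK k) 1024 20480 = true := by decide +kernel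

theorem kcolOK_21504 : allFrom (fun k => pK k) 1024 21504 = true := by decide +kernel

theorem kcolOK_22528 : allFrom (fun k => pK k) 1024 22528 = true := by decide +kernel

theorem kcolOK_23552 : allFrom (fun k => pK k) 1024 23552 = true := by decide +kernel

end CfsgLib.Fi23Max
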