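import Cfsg.Agent.Lib.Fi23Max.DataD

set_option autoImplicit false

set_option linter.all false

namespace CfsgLib.Fi23Max

open CfsgLib.CosetEnum
open CfsgLib.CosetEnum.Fi23 (table zCol)

theorem kcolOK_24576 : allFrom (fun k => pK k) 1024 24576 = true := by decide +kernel

theorem kcolOK_25600 : allFrom (fun k => pK k) 1024 25600 = true := by decide +kernel

theorem kcolOK_26624 : allFrom (fun k => pK k) 1024 26624 = true := by decide +kernel

theorem kcolOK_27648 : allFrom (fun k => pK k) 1024 27648 = true := by decide +kernel

theorem kcolOK_28672 : allFrom (fun k => pK k) 1024 28672 = true := by decide +kernel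

theorem kcolOK_29696 : allFrom (fun k => pK k) 1024 29696 = true := by decide +kernel

theorem kcolOK_30720 : allFrom (fun k => pK k) 951 30720 = true := by decide +kernel

end CfsgLib.Fi23Max
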