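import Cfsg.Agent.Lib.Fi23Max.DataD

set_option autoImplicit false

set_option linter.all false

namespace CfsgLib.Fi23Max

open CfsgLib.CosetEnum
open CfsgLib.CosetEnum.Fi23 (table zCol)

theorem evOK : allFrom pEv 324 0 = true := by decide +kernel

theorem kimgOK : allFrom pKimg 324 0 = true := by decide +kernel

theorem treeOK_0 : allFrom pTree 54 0 = true := by decide +kernel

theorem pairOK_0 : allFrom (fun x => allFrom (fun y => pPair x y) 324 0) 54 0 = true := by decide +kernel

theorem treeOK_54 : allFrom pTree 54 54 = true := by decide +kernel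

theorem pairOK_54 : allFrom (fun x => allFrom (fun y => pPair x y) 324 0) 54 54 = true := by decide +kernel

theorem treeOK_108 : allFrom pTree 54 108 = true := by decide +kernel

theorem pairOK_108 : allFrom (fun x => allFrom (fun y => pPair x y) 324 0) 54 108 = true := by decide +kernel

theorem treeOK_162 : allFrom pTree 54 162 = true := by decide +kernel

theorem pairOK_162 : allFrom (fun x => allFrom (fun y => pPair x y) 324 0) 54 162 = true := by decide +kernel

theorem treeOK_216 : allFrom pTree 54 216 = true := by decide +kernel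

theorem pairOK_216 : allFrom (fun x => allFrom (fun y => pPair x y) 324 0) 54 216 = true := by decide +kernel

theorem treeOK_270 : allFrom pTree 54 270 = true := by decide +kernel

theorem pairOK_270 : allFrom (fun x => allFrom (fun y => pPair x y) 324 0) 54 270 = true := by decide +kernel

theorem hOK0 : allFrom (fun i => pH hw0 i) 324 0 = true := by decide +kernel

theorem hOK1 : allFrom (fun i => pH hw1 i) 324 0 = true := by decide +kernel

theorem hOK2 : allFrom (fun i => pH hw2 i) 324 0 = true := by decide +kernel

theorem treeOK_upto54 : ∀ k < 54, pTree k = true := fun k hk =>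
  allFrom_spec _ _ _ treeOK_0 k (Nat.zero_le k) (by omega)

theorem treeOK_upto108 : ∀ k < 108, pTree k = true := fun k hk =>
  (Nat.lt_or_ge k 54).elim (treeOK_upto54 k) fun h =>
    allFrom_spec _ _ _ treeOK_54 k h (by omega)

theorem treeOK_upto162 : ∀ k < 162, pTree k = true := fun k hk =>
  (Nat.lt_or_ge k 108).elim (treeOK_upto108 k) fun h =>
    allFrom_spec _ _ _ treeOK_108 k h (by omega)

theorem treeOK_upto216 : ∀ k < 216, pTree k = true := fun k hk =>
  (Nat.lt_or_ge k 162).elim (treeOK_upto162 k) fun h =>
    allFrom_spec _ _ _ treeOK_162 k h (by omega)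

theorem treeOK_upto270 : ∀ k < 270, pTree k = true := fun k hk =>
  (Nat.lt_or_ge k 216).elim (treeOK_upto216 k) fun h =>
    allFrom_spec _ _ _ treeOK_216 k h (by omega)

theorem treeOK_upto324 : ∀ k < 324, pTree k = true := fun k hk =>
  (Nat.lt_or_ge k 270).elim (treeOK_upto270 k) fun h =>
    allFrom_spec _ _ _ treeOK_270 k h (by omega)

theorem treeOK_ok : ∀ k < 324, pTree k = true := treeOK_upto324

theorem pairOK_upto54 : ∀ k < 54, allFrom (fun y => pPair k y) 324 0 = true := fun k hk =>
  allFrom_spec _ _ _ pairOK_0 k (Nat.zero_le k) (by omega)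

theorem pairOK_upto108 : ∀ k < 108, allFrom (fun y => pPair k y) 324 0 = true := fun k hk =>
  (Nat.lt_or_ge k 54).elim (pairOK_upto54 k) fun h =>
    allFrom_spec _ _ _ pairOK_54 k h (by omega)

theorem pairOK_upto162 : ∀ k < 162, allFrom (fun y => pPair k y) 324 0 = true := fun k hk =>
  (Nat.lt_or_ge k 108).elim (pairOK_upto108 k) fun h =>
    allFrom_spec _ _ _ pairOK_108 k h (by omega)

theorem pairOK_upto216 : ∀ k < 216, allFrom (fun y => pPair k y) 324 0 = true := fun k hk =>
  (Nat.lt_or_ge k 162).elim (pairOK_upto162 k) fun h =>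
    allFrom_spec _ _ _ pairOK_162 k h (by omega)

theorem pairOK_upto270 : ∀ k < 270, allFrom (fun y => pPair k y) 324 0 = true := fun k hk =>
  (Nat.lt_or_ge k 216).elim (pairOK_upto216 k) fun h =>
    allFrom_spec _ _ _ pairOK_216 k h (by omega)

theorem pairOK_upto324 : ∀ k < 324, allFrom (fun y => pPair k y) 324 0 = true := fun k hk =>
  (Nat.lt_or_ge k 270).elim (pairOK_upto270 k) fun h =>
    allFrom_spec _ _ _ pairOK_270 k h (by omega)

theorem pairOK_ok : ∀ k < 324, allFrom (fun y => pPair k y) 324 0 = true := pairOK_upto324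

end CfsgLib.Fi23Max
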