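import Cfsg.Agent.Lib.Fi23Max.QK0
import Cfsg.Agent.Lib.Fi23Max.QK1
import Cfsg.Agent.Lib.Fi23Max.QK2
import Cfsg.Agent.Lib.Fi23Max.QK3
import Cfsg.Agent.Lib.Fi23Max.QO0
import Cfsg.Agent.Lib.Fi23Max.QO1
import Cfsg.Agent.Lib.Fi23Max.QP0
import Cfsg.Agent.Lib.Fi23Max.QF0
import Cfsg.Agent.Lib.Fi23Max.QF1
import Cfsg.Agent.Lib.Fi23Max.QT

set_option autoImplicit false

set_option linter.all false

namespace CfsgLib.Fi23Max

open CfsgLib.CosetEnum
open CfsgLib.CosetEnum.Fi23 (table zCol)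

theorem kcolOK_upto1024 : ∀ k < 1024, pK k = true := fun k hk =>
  allFrom_spec _ _ _ kcolOK_0 k (Nat.zero_le k) (by omega)

theorem kcolOK_upto2048 : ∀ k < 2048, pK k = true := fun k hk =>
  (Nat.lt_or_ge k 1024).elim (kcolOK_upto1024 k) fun h =>
    allFrom_spec _ _ _ kcolOK_1024 k h (by omega)

theorem kcolOK_upto3072 : ∀ k < 3072, pK k = true := fun k hk =>
  (Nat.lt_or_ge k 2048).elim (kcolOK_upto2048 k) fun h =>
    allFrom_spec _ _ _ kcolOK_2048 k h (by omega)

theorem kcolOK_upto4096 : ∀ k < 4096, pK k = true := fun k hk =>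
  (Nat.lt_or_ge k 3072).elim (kcolOK_upto3072 k) fun h =>
    allFrom_spec _ _ _ kcolOK_3072 k h (by omega)

theorem kcolOK_upto5120 : ∀ k < 5120, pK k = true := fun k hk =>
  (Nat.lt_or_ge k 4096).elim (kcolOK_upto4096 k) fun h =>
    allFrom_spec _ _ _ kcolOK_4096 k h (by omega)

theorem kcolOK_upto6144 : ∀ k < 6144, pK k = true := fun k hk =>
  (Nat.lt_or_ge k 5120).elim (kcolOK_upto5120 k) fun h =>
    allFrom_spec _ _ _ kcolOK_5120 k h (by omega)

theorem kcolOK_upto7168 : ∀ k < 7168, pK k = true := fun k hk =>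
  (Nat.lt_or_ge k 6144).elim (kcolOK_upto6144 k) fun h =>
    allFrom_spec _ _ _ kcolOK_6144 k h (by omega)

theorem kcolOK_upto8192 : ∀ k < 8192, pK k = true := fun k hk =>
  (Nat.lt_or_ge k 7168).elim (kcolOK_upto7168 k) fun h =>
    allFrom_spec _ _ _ kcolOK_7168 k h (by omega)

theorem kcolOK_upto9216 : ∀ k < 9216, pK k = true := fun k hk =>
  (Nat.lt_or_ge k 8192).elim (kcolOK_upto8192 k) fun h =>
    allFrom_spec _ _ _ kcolOK_8192 k h (by omega)

theorem kcolOK_upto10240 : ∀ k < 10240, pK k = true := fun k hk =>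
  (Nat.lt_or_ge k 9216).elim (kcolOK_upto9216 k) fun h =>
    allFrom_spec _ _ _ kcolOK_9216 k h (by omega)

theorem kcolOK_upto11264 : ∀ k < 11264, pK k = true := fun k hk =>
  (Nat.lt_or_ge k 10240).elim (kcolOK_upto10240 k) fun h =>
    allFrom_spec _ _ _ kcolOK_10240 k h (by omega)

theorem kcolOK_upto12288 : ∀ k < 12288, pK k = true := fun k hk =>
  (Nat.lt_or_ge k 11264).elim (kcolOK_upto11264 k) fun h =>
    allFrom_spec _ _ _ kcolOK_11264 k h (by omega)

theorem kcolOK_upto13312 : ∀ k < 13312, pK k = true := fun k hk =>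
  (Nat.lt_or_ge k 12288).elim (kcolOK_upto12288 k) fun h =>
    allFrom_spec _ _ _ kcolOK_12288 k h (by omega)

theorem kcolOK_upto14336 : ∀ k < 14336, pK k = true := fun k hk =>
  (Nat.lt_or_ge k 13312).elim (kcolOK_upto13312 k) fun h =>
    allFrom_spec _ _ _ kcolOK_13312 k h (by omega)

theorem kcolOK_upto15360 : ∀ k < 15360, pK k = true := fun k hk =>
  (Nat.lt_or_ge k 14336).elim (kcolOK_upto14336 k) fun h =>
    allFrom_spec _ _ _ kcolOK_14336 k h (by omega)

theorem kcolOK_upto16384 : ∀ k < 16384, pK k = true := fun k hk =>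
  (Nat.lt_or_ge k 15360).elim (kcolOK_upto15360 k) fun h =>
    allFrom_spec _ _ _ kcolOK_15360 k h (by omega)

theorem kcolOK_upto17408 : ∀ k < 17408, pK k = true := fun k hk =>
  (Nat.lt_or_ge k 16384).elim (kcolOK_upto16384 k) fun h =>
    allFrom_spec _ _ _ kcolOK_16384 k h (by omega)

theorem kcolOK_upto18432 : ∀ k < 18432, pK k = true := fun k hk =>
  (Nat.lt_or_ge k 17408).elim (kcolOK_upto17408 k) fun h =>
    allFrom_spec _ _ _ kcolOK_17408 k h (by omega)

theorem kcolOK_upto19456 : ∀ k < 19456, pK k = true := fun k hk =>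
  (Nat.lt_or_ge k 18432).elim (kcolOK_upto18432 k) fun h =>
    allFrom_spec _ _ _ kcolOK_18432 k h (by omega)

theorem kcolOK_upto20480 : ∀ k < 20480, pK k = true := fun k hk =>
  (Nat.lt_or_ge k 19456).elim (kcolOK_upto19456 k) fun h =>
    allFrom_spec _ _ _ kcolOK_19456 k h (by omega)

theorem kcolOK_upto21504 : ∀ k < 21504, pK k = true := fun k hk =>
  (Nat.lt_or_ge k 20480).elim (kcolOK_upto20480 k) fun h =>
    allFrom_spec _ _ _ kcolOK_20480 k h (by omega)

theorem kcolOK_upto22528 : ∀ k < 22528, pK k = true := fun k hk =>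
  (Nat.lt_or_ge k 21504).elim (kcolOK_upto21504 k) fun h =>
    allFrom_spec _ _ _ kcolOK_21504 k h (by omega)

theorem kcolOK_upto23552 : ∀ k < 23552, pK k = true := fun k hk =>
  (Nat.lt_or_ge k 22528).elim (kcolOK_upto22528 k) fun h =>
    allFrom_spec _ _ _ kcolOK_22528 k h (by omega)

theorem kcolOK_upto24576 : ∀ k < 24576, pK k = true := fun k hk =>
  (Nat.lt_or_ge k 23552).elim (kcolOK_upto23552 k) fun h =>
    allFrom_spec _ _ _ kcolOK_23552 k h (by omega)

theorem kcolOK_upto25600 : ∀ k < 25600, pK k = true := fun k hk =>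
  (Nat.lt_or_ge k 24576).elim (kcolOK_upto24576 k) fun h =>
    allFrom_spec _ _ _ kcolOK_24576 k h (by omega)

theorem kcolOK_upto26624 : ∀ k < 26624, pK k = true := fun k hk =>
  (Nat.lt_or_ge k 25600).elim (kcolOK_upto25600 k) fun h =>
    allFrom_spec _ _ _ kcolOK_25600 k h (by omega)

theorem kcolOK_upto27648 : ∀ k < 27648, pK k = true := fun k hk =>
  (Nat.lt_or_ge k 26624).elim (kcolOK_upto26624 k) fun h =>
    allFrom_spec _ _ _ kcolOK_26624 k h (by omega)

theorem kcolOK_upto28672 : ∀ k < 28672, pK k = true := fun k hk =>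
  (Nat.lt_or_ge k 27648).elim (kcolOK_upto27648 k) fun h =>
    allFrom_spec _ _ _ kcolOK_27648 k h (by omega)

theorem kcolOK_upto29696 : ∀ k < 29696, pK k = true := fun k hk =>
  (Nat.lt_or_ge k 28672).elim (kcolOK_upto28672 k) fun h =>
    allFrom_spec _ _ _ kcolOK_28672 k h (by omega)

theorem kcolOK_upto30720 : ∀ k < 30720, pK k = true := fun k hk =>
  (Nat.lt_or_ge k 29696).elim (kcolOK_upto29696 k) fun h =>
    allFrom_spec _ _ _ kcolOK_29696 k h (by omega)

theorem kcolOK_upto31671 : ∀ k < 31671, pK k = true := fun k hk =>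
  (Nat.lt_or_ge k 30720).elim (kcolOK_upto30720 k) fun h =>
    allFrom_spec _ _ _ kcolOK_30720 k h (by omega)

theorem kcolOK_ok : ∀ k < 31671, pK k = true := kcolOK_upto31671

theorem orbOK_upto1024 : ∀ k < 1024, pO k = true := fun k hk =>
  allFrom_spec _ _ _ orbOK_0 k (Nat.zero_le k) (by omega)

theorem orbOK_upto2048 : ∀ k < 2048, pO k = true := fun k hk =>
  (Nat.lt_or_ge k 1024).elim (orbOK_upto1024 k) fun h =>
    allFrom_spec _ _ _ orbOK_1024 k h (by omega)

theorem orbOK_upto3072 : ∀ k < 3072, pO k = true := fun k hk =>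
  (Nat.lt_or_ge k 2048).elim (orbOK_upto2048 k) fun h =>
    allFrom_spec _ _ _ orbOK_2048 k h (by omega)

theorem orbOK_upto4096 : ∀ k < 4096, pO k = true := fun k hk =>
  (Nat.lt_or_ge k 3072).elim (orbOK_upto3072 k) fun h =>
    allFrom_spec _ _ _ orbOK_3072 k h (by omega)

theorem orbOK_upto5120 : ∀ k < 5120, pO k = true := fun k hk =>
  (Nat.lt_or_ge k 4096).elim (orbOK_upto4096 k) fun h =>
    allFrom_spec _ _ _ orbOK_4096 k h (by omega)

theorem orbOK_upto6144 : ∀ k < 6144, pO k = true := fun k hk =>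
  (Nat.lt_or_ge k 5120).elim (orbOK_upto5120 k) fun h =>
    allFrom_spec _ _ _ orbOK_5120 k h (by omega)

theorem orbOK_upto7168 : ∀ k < 7168, pO k = true := fun k hk =>
  (Nat.lt_or_ge k 6144).elim (orbOK_upto6144 k) fun h =>
    allFrom_spec _ _ _ orbOK_6144 k h (by omega)

theorem orbOK_upto8192 : ∀ k < 8192, pO k = true := fun k hk =>
  (Nat.lt_or_ge k 7168).elim (orbOK_upto7168 k) fun h =>
    allFrom_spec _ _ _ orbOK_7168 k h (by omega)

theorem orbOK_upto9216 : ∀ k < 9216, pO k = true := fun k hk =>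
  (Nat.lt_or_ge k 8192).elim (orbOK_upto8192 k) fun h =>
    allFrom_spec _ _ _ orbOK_8192 k h (by omega)

theorem orbOK_upto10240 : ∀ k < 10240, pO k = true := fun k hk =>
  (Nat.lt_or_ge k 9216).elim (orbOK_upto9216 k) fun h =>
    allFrom_spec _ _ _ orbOK_9216 k h (by omega)

theorem orbOK_upto11264 : ∀ k < 11264, pO k = true := fun k hk =>
  (Nat.lt_or_ge k 10240).elim (orbOK_upto10240 k) fun h =>
    allFrom_spec _ _ _ orbOK_10240 k h (by omega)

theorem orbOK_upto12288 : ∀ k < 12288, pO k = true := fun k hk =>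
  (Nat.lt_or_ge k 11264).elim (orbOK_upto11264 k) fun h =>
    allFrom_spec _ _ _ orbOK_11264 k h (by omega)

theorem orbOK_upto13312 : ∀ k < 13312, pO k = true := fun k hk =>
  (Nat.lt_or_ge k 12288).elim (orbOK_upto12288 k) fun h =>
    allFrom_spec _ _ _ orbOK_12288 k h (by omega)

theorem orbOK_upto14336 : ∀ k < 14336, pO k = true := fun k hk =>
  (Nat.lt_or_ge k 13312).elim (orbOK_upto13312 k) fun h =>
    allFrom_spec _ _ _ orbOK_13312 k h (by omega)

theorem orbOK_upto15360 : ∀ k < 15360, pO k = true := fun k hk =>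
  (Nat.lt_or_ge k 14336).elim (orbOK_upto14336 k) fun h =>
    allFrom_spec _ _ _ orbOK_14336 k h (by omega)

theorem orbOK_upto16384 : ∀ k < 16384, pO k = true := fun k hk =>
  (Nat.lt_or_ge k 15360).elim (orbOK_upto15360 k) fun h =>
    allFrom_spec _ _ _ orbOK_15360 k h (by omega)

theorem orbOK_upto17408 : ∀ k < 17408, pO k = true := fun k hk =>
  (Nat.lt_or_ge k 16384).elim (orbOK_upto16384 k) fun h =>
    allFrom_spec _ _ _ orbOK_16384 k h (by omega)

theorem orbOK_upto18432 : ∀ k < 18432, pO k = true := fun k hk =>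
  (Nat.lt_or_ge k 17408).elim (orbOK_upto17408 k) fun h =>
    allFrom_spec _ _ _ orbOK_17408 k h (by omega)

theorem orbOK_upto19456 : ∀ k < 19456, pO k = true := fun k hk =>
  (Nat.lt_or_ge k 18432).elim (orbOK_upto18432 k) fun h =>
    allFrom_spec _ _ _ orbOK_18432 k h (by omega)

theorem orbOK_upto20480 : ∀ k < 20480, pO k = true := fun k hk =>
  (Nat.lt_or_ge k 19456).elim (orbOK_upto19456 k) fun h =>
    allFrom_spec _ _ _ orbOK_19456 k h (by omega)

theorem orbOK_upto21504 : ∀ k < 21504, pO k = true := fun k hk =>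
  (Nat.lt_or_ge k 20480).elim (orbOK_upto20480 k) fun h =>
    allFrom_spec _ _ _ orbOK_20480 k h (by omega)

theorem orbOK_upto22528 : ∀ k < 22528, pO k = true := fun k hk =>
  (Nat.lt_or_ge k 21504).elim (orbOK_upto21504 k) fun h =>
    allFrom_spec _ _ _ orbOK_21504 k h (by omega)

theorem orbOK_upto23552 : ∀ k < 23552, pO k = true := fun k hk =>
  (Nat.lt_or_ge k 22528).elim (orbOK_upto22528 k) fun h =>
    allFrom_spec _ _ _ orbOK_22528 k h (by omega)

theorem orbOK_upto24576 : ∀ k < 24576, pO k = true := fun k hk =>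
  (Nat.lt_or_ge k 23552).elim (orbOK_upto23552 k) fun h =>
    allFrom_spec _ _ _ orbOK_23552 k h (by omega)

theorem orbOK_upto25600 : ∀ k < 25600, pO k = true := fun k hk =>
  (Nat.lt_or_ge k 24576).elim (orbOK_upto24576 k) fun h =>
    allFrom_spec _ _ _ orbOK_24576 k h (by omega)

theorem orbOK_upto26624 : ∀ k < 26624, pO k = true := fun k hk =>
  (Nat.lt_or_ge k 25600).elim (orbOK_upto25600 k) fun h =>
    allFrom_spec _ _ _ orbOK_25600 k h (by omega)

theorem orbOK_upto27648 : ∀ k < 27648, pO k = true := fun k hk =>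
  (Nat.lt_or_ge k 26624).elim (orbOK_upto26624 k) fun h =>
    allFrom_spec _ _ _ orbOK_26624 k h (by omega)

theorem orbOK_upto28672 : ∀ k < 28672, pO k = true := fun k hk =>
  (Nat.lt_or_ge k 27648).elim (orbOK_upto27648 k) fun h =>
    allFrom_spec _ _ _ orbOK_27648 k h (by omega)

theorem orbOK_upto29696 : ∀ k < 29696, pO k = true := fun k hk =>
  (Nat.lt_or_ge k 28672).elim (orbOK_upto28672 k) fun h =>
    allFrom_spec _ _ _ orbOK_28672 k h (by omega)

theorem orbOK_upto30720 : ∀ k < 30720, pO k = true := fun k hk =>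
  (Nat.lt_or_ge k 29696).elim (orbOK_upto29696 k) fun h =>
    allFrom_spec _ _ _ orbOK_29696 k h (by omega)

theorem orbOK_upto31671 : ∀ k < 31671, pO k = true := fun k hk =>
  (Nat.lt_or_ge k 30720).elim (orbOK_upto30720 k) fun h =>
    allFrom_spec _ _ _ orbOK_30720 k h (by omega)

theorem orbOK_ok : ∀ k < 31671, pO k = true := orbOK_upto31671

theorem posOK_upto1024 : ∀ k < 1024, pPos k = true := fun k hk =>
  allFrom_spec _ _ _ posOK_0 k (Nat.zero_le k) (by omega)

theorem posOK_upto2048 : ∀ k < 2048, pPos k = true := fun k hk =>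
  (Nat.lt_or_ge k 1024).elim (posOK_upto1024 k) fun h =>
    allFrom_spec _ _ _ posOK_1024 k h (by omega)

theorem posOK_upto3072 : ∀ k < 3072, pPos k = true := fun k hk =>
  (Nat.lt_or_ge k 2048).elim (posOK_upto2048 k) fun h =>
    allFrom_spec _ _ _ posOK_2048 k h (by omega)

theorem posOK_upto4096 : ∀ k < 4096, pPos k = true := fun k hk =>
  (Nat.lt_or_ge k 3072).elim (posOK_upto3072 k) fun h =>
    allFrom_spec _ _ _ posOK_3072 k h (by omega)

theorem posOK_upto5120 : ∀ k < 5120, pPos k = true := fun k hk =>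
  (Nat.lt_or_ge k 4096).elim (posOK_upto4096 k) fun h =>
    allFrom_spec _ _ _ posOK_4096 k h (by omega)

theorem posOK_upto6144 : ∀ k < 6144, pPos k = true := fun k hk =>
  (Nat.lt_or_ge k 5120).elim (posOK_upto5120 k) fun h =>
    allFrom_spec _ _ _ posOK_5120 k h (by omega)

theorem posOK_upto7168 : ∀ k < 7168, pPos k = true := fun k hk =>
  (Nat.lt_or_ge k 6144).elim (posOK_upto6144 k) fun h =>
    allFrom_spec _ _ _ posOK_6144 k h (by omega)

theorem posOK_upto8192 : ∀ k < 8192, pPos k = true := fun k hk =>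
  (Nat.lt_or_ge k 7168).elim (posOK_upto7168 k) fun h =>
    allFrom_spec _ _ _ posOK_7168 k h (by omega)

theorem posOK_upto9216 : ∀ k < 9216, pPos k = true := fun k hk =>
  (Nat.lt_or_ge k 8192).elim (posOK_upto8192 k) fun h =>
    allFrom_spec _ _ _ posOK_8192 k h (by omega)

theorem posOK_upto10240 : ∀ k < 10240, pPos k = true := fun k hk =>
  (Nat.lt_or_ge k 9216).elim (posOK_upto9216 k) fun h =>
    allFrom_spec _ _ _ posOK_9216 k h (by omega)

theorem posOK_upto11264 : ∀ k < 11264, pPos k = true := fun k hk =>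
  (Nat.lt_or_ge k 10240).elim (posOK_upto10240 k) fun h =>
    allFrom_spec _ _ _ posOK_10240 k h (by omega)

theorem posOK_upto12288 : ∀ k < 12288, pPos k = true := fun k hk =>
  (Nat.lt_or_ge k 11264).elim (posOK_upto11264 k) fun h =>
    allFrom_spec _ _ _ posOK_11264 k h (by omega)

theorem posOK_upto13312 : ∀ k < 13312, pPos k = true := fun k hk =>
  (Nat.lt_or_ge k 12288).elim (posOK_upto12288 k) fun h =>
    allFrom_spec _ _ _ posOK_12288 k h (by omega)

theorem posOK_upto14336 : ∀ k < 14336, pPos k = true := fun k hk =>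
  (Nat.lt_or_ge k 13312).elim (posOK_upto13312 k) fun h =>
    allFrom_spec _ _ _ posOK_13312 k h (by omega)

theorem posOK_upto15360 : ∀ k < 15360, pPos k = true := fun k hk =>
  (Nat.lt_or_ge k 14336).elim (posOK_upto14336 k) fun h =>
    allFrom_spec _ _ _ posOK_14336 k h (by omega)

theorem posOK_upto16384 : ∀ k < 16384, pPos k = true := fun k hk =>
  (Nat.lt_or_ge k 15360).elim (posOK_upto15360 k) fun h =>
    allFrom_spec _ _ _ posOK_15360 k h (by omega)

theorem posOK_upto17408 : ∀ k < 17408, pPos k = true := fun k hk =>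
  (Nat.lt_or_ge k 16384).elim (posOK_upto16384 k) fun h =>
    allFrom_spec _ _ _ posOK_16384 k h (by omega)

theorem posOK_upto18432 : ∀ k < 18432, pPos k = true := fun k hk =>
  (Nat.lt_or_ge k 17408).elim (posOK_upto17408 k) fun h =>
    allFrom_spec _ _ _ posOK_17408 k h (by omega)

theorem posOK_upto19456 : ∀ k < 19456, pPos k = true := fun k hk =>
  (Nat.lt_or_ge k 18432).elim (posOK_upto18432 k) fun h =>
    allFrom_spec _ _ _ posOK_18432 k h (by omega)

theorem posOK_upto20480 : ∀ k < 20480, pPos k = true := fun k hk =>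
  (Nat.lt_or_ge k 19456).elim (posOK_upto19456 k) fun h =>
    allFrom_spec _ _ _ posOK_19456 k h (by omega)

theorem posOK_upto21504 : ∀ k < 21504, pPos k = true := fun k hk =>
  (Nat.lt_or_ge k 20480).elim (posOK_upto20480 k) fun h =>
    allFrom_spec _ _ _ posOK_20480 k h (by omega)

theorem posOK_upto22528 : ∀ k < 22528, pPos k = true := fun k hk =>
  (Nat.lt_or_ge k 21504).elim (posOK_upto21504 k) fun h =>
    allFrom_spec _ _ _ posOK_21504 k h (by omega)

theorem posOK_upto23552 : ∀ k < 23552, pPos k = true := fun k hk =>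
  (Nat.lt_or_ge k 22528).elim (posOK_upto22528 k) fun h =>
    allFrom_spec _ _ _ posOK_22528 k h (by omega)

theorem posOK_upto24576 : ∀ k < 24576, pPos k = true := fun k hk =>
  (Nat.lt_or_ge k 23552).elim (posOK_upto23552 k) fun h =>
    allFrom_spec _ _ _ posOK_23552 k h (by omega)

theorem posOK_upto25600 : ∀ k < 25600, pPos k = true := fun k hk =>
  (Nat.lt_or_ge k 24576).elim (posOK_upto24576 k) fun h =>
    allFrom_spec _ _ _ posOK_24576 k h (by omega)

theorem posOK_upto26624 : ∀ k < 26624, pPos k = true := fun k hk =>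
  (Nat.lt_or_ge k 25600).elim (posOK_upto25600 k) fun h =>
    allFrom_spec _ _ _ posOK_25600 k h (by omega)

theorem posOK_upto27648 : ∀ k < 27648, pPos k = true := fun k hk =>
  (Nat.lt_or_ge k 26624).elim (posOK_upto26624 k) fun h =>
    allFrom_spec _ _ _ posOK_26624 k h (by omega)

theorem posOK_upto28672 : ∀ k < 28672, pPos k = true := fun k hk =>
  (Nat.lt_or_ge k 27648).elim (posOK_upto27648 k) fun h =>
    allFrom_spec _ _ _ posOK_27648 k h (by omega)

theorem posOK_upto29696 : ∀ k < 29696, pPos k = true := fun k hk =>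
  (Nat.lt_or_ge k 28672).elim (posOK_upto28672 k) fun h =>
    allFrom_spec _ _ _ posOK_28672 k h (by omega)

theorem posOK_upto30720 : ∀ k < 30720, pPos k = true := fun k hk =>
  (Nat.lt_or_ge k 29696).elim (posOK_upto29696 k) fun h =>
    allFrom_spec _ _ _ posOK_29696 k h (by omega)

theorem posOK_upto31671 : ∀ k < 31671, pPos k = true := fun k hk =>
  (Nat.lt_or_ge k 30720).elim (posOK_upto30720 k) fun h =>
    allFrom_spec _ _ _ posOK_30720 k h (by omega)

theorem posOK_ok : ∀ k < 31671, pPos k = true := posOK_upto31671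

theorem fixOK1_upto2048 : ∀ k < 2048, pFix fix1 249 1237 2146 k = true := fun k hk =>
  allFrom_spec _ _ _ fixOK1_0 k (Nat.zero_le k) (by omega)

theorem fixOK1_upto4096 : ∀ k < 4096, pFix fix1 249 1237 2146 k = true := fun k hk =>
  (Nat.lt_or_ge k 2048).elim (fixOK1_upto2048 k) fun h =>
    allFrom_spec _ _ _ fixOK1_2048 k h (by omega)

theorem fixOK1_upto6144 : ∀ k < 6144, pFix fix1 249 1237 2146 k = true := fun k hk =>
  (Nat.lt_or_ge k 4096).elim (fixOK1_upto4096 k) fun h =>
    allFrom_spec _ _ _ fixOK1_4096 k h (by omega)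

theorem fixOK1_upto8192 : ∀ k < 8192, pFix fix1 249 1237 2146 k = true := fun k hk =>
  (Nat.lt_or_ge k 6144).elim (fixOK1_upto6144 k) fun h =>
    allFrom_spec _ _ _ fixOK1_6144 k h (by omega)

theorem fixOK1_upto10240 : ∀ k < 10240, pFix fix1 249 1237 2146 k = true := fun k hk =>
  (Nat.lt_or_ge k 8192).elim (fixOK1_upto8192 k) fun h =>
    allFrom_spec _ _ _ fixOK1_8192 k h (by omega)

theorem fixOK1_upto12288 : ∀ k < 12288, pFix fix1 249 1237 2146 k = true := fun k hk =>
  (Nat.lt_or_ge k 10240).elim (fixOK1_upto10240 k) fun h =>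
    allFrom_spec _ _ _ fixOK1_10240 k h (by omega)

theorem fixOK1_upto14336 : ∀ k < 14336, pFix fix1 249 1237 2146 k = true := fun k hk =>
  (Nat.lt_or_ge k 12288).elim (fixOK1_upto12288 k) fun h =>
    allFrom_spec _ _ _ fixOK1_12288 k h (by omega)

theorem fixOK1_upto16384 : ∀ k < 16384, pFix fix1 249 1237 2146 k = true := fun k hk =>
  (Nat.lt_or_ge k 14336).elim (fixOK1_upto14336 k) fun h =>
    allFrom_spec _ _ _ fixOK1_14336 k h (by omega)

theorem fixOK1_upto18432 : ∀ k < 18432, pFix fix1 249 1237 2146 k = true := fun k hk =>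
  (Nat.lt_or_ge k 16384).elim (fixOK1_upto16384 k) fun h =>
    allFrom_spec _ _ _ fixOK1_16384 k h (by omega)

theorem fixOK1_upto20480 : ∀ k < 20480, pFix fix1 249 1237 2146 k = true := fun k hk =>
  (Nat.lt_or_ge k 18432).elim (fixOK1_upto18432 k) fun h =>
    allFrom_spec _ _ _ fixOK1_18432 k h (by omega)

theorem fixOK1_upto22528 : ∀ k < 22528, pFix fix1 249 1237 2146 k = true := fun k hk =>
  (Nat.lt_or_ge k 20480).elim (fixOK1_upto20480 k) fun h =>
    allFrom_spec _ _ _ fixOK1_20480 k h (by omega)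

theorem fixOK1_upto24576 : ∀ k < 24576, pFix fix1 249 1237 2146 k = true := fun k hk =>
  (Nat.lt_or_ge k 22528).elim (fixOK1_upto22528 k) fun h =>
    allFrom_spec _ _ _ fixOK1_22528 k h (by omega)

theorem fixOK1_upto26624 : ∀ k < 26624, pFix fix1 249 1237 2146 k = true := fun k hk =>
  (Nat.lt_or_ge k 24576).elim (fixOK1_upto24576 k) fun h =>
    allFrom_spec _ _ _ fixOK1_24576 k h (by omega)

theorem fixOK1_upto28672 : ∀ k < 28672, pFix fix1 249 1237 2146 k = true := fun k hk =>
  (Nat.lt_or_ge k 26624).elim (fixOK1_upto26624 k) fun h =>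
    allFrom_spec _ _ _ fixOK1_26624 k h (by omega)

theorem fixOK1_upto30720 : ∀ k < 30720, pFix fix1 249 1237 2146 k = true := fun k hk =>
  (Nat.lt_or_ge k 28672).elim (fixOK1_upto28672 k) fun h =>
    allFrom_spec _ _ _ fixOK1_28672 k h (by omega)

theorem fixOK1_upto31671 : ∀ k < 31671, pFix fix1 249 1237 2146 k = true := fun k hk =>
  (Nat.lt_or_ge k 30720).elim (fixOK1_upto30720 k) fun h =>
    allFrom_spec _ _ _ fixOK1_30720 k h (by omega)

theorem fixOK1_ok : ∀ k < 31671, pFix fix1 249 1237 2146 k = true := fixOK1_upto31671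

theorem fixOK2_upto2048 : ∀ k < 2048, pFix fix2 202 1969 2354 k = true := fun k hk =>
  allFrom_spec _ _ _ fixOK2_0 k (Nat.zero_le k) (by omega)

theorem fixOK2_upto4096 : ∀ k < 4096, pFix fix2 202 1969 2354 k = true := fun k hk =>
  (Nat.lt_or_ge k 2048).elim (fixOK2_upto2048 k) fun h =>
    allFrom_spec _ _ _ fixOK2_2048 k h (by omega)

theorem fixOK2_upto6144 : ∀ k < 6144, pFix fix2 202 1969 2354 k = true := fun k hk =>
  (Nat.lt_or_ge k 4096).elim (fixOK2_upto4096 k) fun h =>
    allFrom_spec _ _ _ fixOK2_4096 k h (by omega)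

theorem fixOK2_upto8192 : ∀ k < 8192, pFix fix2 202 1969 2354 k = true := fun k hk =>
  (Nat.lt_or_ge k 6144).elim (fixOK2_upto6144 k) fun h =>
    allFrom_spec _ _ _ fixOK2_6144 k h (by omega)

theorem fixOK2_upto10240 : ∀ k < 10240, pFix fix2 202 1969 2354 k = true := fun k hk =>
  (Nat.lt_or_ge k 8192).elim (fixOK2_upto8192 k) fun h =>
    allFrom_spec _ _ _ fixOK2_8192 k h (by omega)

theorem fixOK2_upto12288 : ∀ k < 12288, pFix fix2 202 1969 2354 k = true := fun k hk =>
  (Nat.lt_or_ge k 10240).elim (fixOK2_upto10240 k) fun h =>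
    allFrom_spec _ _ _ fixOK2_10240 k h (by omega)

theorem fixOK2_upto14336 : ∀ k < 14336, pFix fix2 202 1969 2354 k = true := fun k hk =>
  (Nat.lt_or_ge k 12288).elim (fixOK2_upto12288 k) fun h =>
    allFrom_spec _ _ _ fixOK2_12288 k h (by omega)

theorem fixOK2_upto16384 : ∀ k < 16384, pFix fix2 202 1969 2354 k = true := fun k hk =>
  (Nat.lt_or_ge k 14336).elim (fixOK2_upto14336 k) fun h =>
    allFrom_spec _ _ _ fixOK2_14336 k h (by omega)

theorem fixOK2_upto18432 : ∀ k < 18432, pFix fix2 202 1969 2354 k = true := fun k hk =>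
  (Nat.lt_or_ge k 16384).elim (fixOK2_upto16384 k) fun h =>
    allFrom_spec _ _ _ fixOK2_16384 k h (by omega)

theorem fixOK2_upto20480 : ∀ k < 20480, pFix fix2 202 1969 2354 k = true := fun k hk =>
  (Nat.lt_or_ge k 18432).elim (fixOK2_upto18432 k) fun h =>
    allFrom_spec _ _ _ fixOK2_18432 k h (by omega)

theorem fixOK2_upto22528 : ∀ k < 22528, pFix fix2 202 1969 2354 k = true := fun k hk =>
  (Nat.lt_or_ge k 20480).elim (fixOK2_upto20480 k) fun h =>
    allFrom_spec _ _ _ fixOK2_20480 k h (by omega)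

theorem fixOK2_upto24576 : ∀ k < 24576, pFix fix2 202 1969 2354 k = true := fun k hk =>
  (Nat.lt_or_ge k 22528).elim (fixOK2_upto22528 k) fun h =>
    allFrom_spec _ _ _ fixOK2_22528 k h (by omega)

theorem fixOK2_upto26624 : ∀ k < 26624, pFix fix2 202 1969 2354 k = true := fun k hk =>
  (Nat.lt_or_ge k 24576).elim (fixOK2_upto24576 k) fun h =>
    allFrom_spec _ _ _ fixOK2_24576 k h (by omega)

theorem fixOK2_upto28672 : ∀ k < 28672, pFix fix2 202 1969 2354 k = true := fun k hk =>
  (Nat.lt_or_ge k 26624).elim (fixOK2_upto26624 k) fun h =>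
    allFrom_spec _ _ _ fixOK2_26624 k h (by omega)

theorem fixOK2_upto30720 : ∀ k < 30720, pFix fix2 202 1969 2354 k = true := fun k hk =>
  (Nat.lt_or_ge k 28672).elim (fixOK2_upto28672 k) fun h =>
    allFrom_spec _ _ _ fixOK2_28672 k h (by omega)

theorem fixOK2_upto31671 : ∀ k < 31671, pFix fix2 202 1969 2354 k = true := fun k hk =>
  (Nat.lt_or_ge k 30720).elim (fixOK2_upto30720 k) fun h =>
    allFrom_spec _ _ _ fixOK2_30720 k h (by omega)

theorem fixOK2_ok : ∀ k < 31671, pFix fix2 202 1969 2354 k = true := fixOK2_upto31671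

theorem fixOK3_upto2048 : ∀ k < 2048, pFix fix3 620 15335 17551 k = true := fun k hk =>
  allFrom_spec _ _ _ fixOK3_0 k (Nat.zero_le k) (by omega)

theorem fixOK3_upto4096 : ∀ k < 4096, pFix fix3 620 15335 17551 k = true := fun k hk =>
  (Nat.lt_or_ge k 2048).elim (fixOK3_upto2048 k) fun h =>
    allFrom_spec _ _ _ fixOK3_2048 k h (by omega)

theorem fixOK3_upto6144 : ∀ k < 6144, pFix fix3 620 15335 17551 k = true := fun k hk =>
  (Nat.lt_or_ge k 4096).elim (fixOK3_upto4096 k) fun h =>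
    allFrom_spec _ _ _ fixOK3_4096 k h (by omega)

theorem fixOK3_upto8192 : ∀ k < 8192, pFix fix3 620 15335 17551 k = true := fun k hk =>
  (Nat.lt_or_ge k 6144).elim (fixOK3_upto6144 k) fun h =>
    allFrom_spec _ _ _ fixOK3_6144 k h (by omega)

theorem fixOK3_upto10240 : ∀ k < 10240, pFix fix3 620 15335 17551 k = true := fun k hk =>
  (Nat.lt_or_ge k 8192).elim (fixOK3_upto8192 k) fun h =>
    allFrom_spec _ _ _ fixOK3_8192 k h (by omega)

theorem fixOK3_upto12288 : ∀ k < 12288, pFix fix3 620 15335 17551 k = true := fun k hk =>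
  (Nat.lt_or_ge k 10240).elim (fixOK3_upto10240 k) fun h =>
    allFrom_spec _ _ _ fixOK3_10240 k h (by omega)

theorem fixOK3_upto14336 : ∀ k < 14336, pFix fix3 620 15335 17551 k = true := fun k hk =>
  (Nat.lt_or_ge k 12288).elim (fixOK3_upto12288 k) fun h =>
    allFrom_spec _ _ _ fixOK3_12288 k h (by omega)

theorem fixOK3_upto16384 : ∀ k < 16384, pFix fix3 620 15335 17551 k = true := fun k hk =>
  (Nat.lt_or_ge k 14336).elim (fixOK3_upto14336 k) fun h =>
    allFrom_spec _ _ _ fixOK3_14336 k h (by omega)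

theorem fixOK3_upto18432 : ∀ k < 18432, pFix fix3 620 15335 17551 k = true := fun k hk =>
  (Nat.lt_or_ge k 16384).elim (fixOK3_upto16384 k) fun h =>
    allFrom_spec _ _ _ fixOK3_16384 k h (by omega)

theorem fixOK3_upto20480 : ∀ k < 20480, pFix fix3 620 15335 17551 k = true := fun k hk =>
  (Nat.lt_or_ge k 18432).elim (fixOK3_upto18432 k) fun h =>
    allFrom_spec _ _ _ fixOK3_18432 k h (by omega)

theorem fixOK3_upto22528 : ∀ k < 22528, pFix fix3 620 15335 17551 k = true := fun k hk =>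
  (Nat.lt_or_ge k 20480).elim (fixOK3_upto20480 k) fun h =>
    allFrom_spec _ _ _ fixOK3_20480 k h (by omega)

theorem fixOK3_upto24576 : ∀ k < 24576, pFix fix3 620 15335 17551 k = true := fun k hk =>
  (Nat.lt_or_ge k 22528).elim (fixOK3_upto22528 k) fun h =>
    allFrom_spec _ _ _ fixOK3_22528 k h (by omega)

theorem fixOK3_upto26624 : ∀ k < 26624, pFix fix3 620 15335 17551 k = true := fun k hk =>
  (Nat.lt_or_ge k 24576).elim (fixOK3_upto24576 k) fun h =>
    allFrom_spec _ _ _ fixOK3_24576 k h (by omega)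

theorem fixOK3_upto28672 : ∀ k < 28672, pFix fix3 620 15335 17551 k = true := fun k hk =>
  (Nat.lt_or_ge k 26624).elim (fixOK3_upto26624 k) fun h =>
    allFrom_spec _ _ _ fixOK3_26624 k h (by omega)

theorem fixOK3_upto30720 : ∀ k < 30720, pFix fix3 620 15335 17551 k = true := fun k hk =>
  (Nat.lt_or_ge k 28672).elim (fixOK3_upto28672 k) fun h =>
    allFrom_spec _ _ _ fixOK3_28672 k h (by omega)

theorem fixOK3_upto31671 : ∀ k < 31671, pFix fix3 620 15335 17551 k = true := fun k hk =>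
  (Nat.lt_or_ge k 30720).elim (fixOK3_upto30720 k) fun h =>
    allFrom_spec _ _ _ fixOK3_30720 k h (by omega)

theorem fixOK3_ok : ∀ k < 31671, pFix fix3 620 15335 17551 k = true := fixOK3_upto31671

theorem fixOK4_upto2048 : ∀ k < 2048, pFix fix4 621 5492 16531 k = true := fun k hk =>
  allFrom_spec _ _ _ fixOK4_0 k (Nat.zero_le k) (by omega)

theorem fixOK4_upto4096 : ∀ k < 4096, pFix fix4 621 5492 16531 k = true := fun k hk =>
  (Nat.lt_or_ge k 2048).elim (fixOK4_upto2048 k) fun h =>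
    allFrom_spec _ _ _ fixOK4_2048 k h (by omega)

theorem fixOK4_upto6144 : ∀ k < 6144, pFix fix4 621 5492 16531 k = true := fun k hk =>
  (Nat.lt_or_ge k 4096).elim (fixOK4_upto4096 k) fun h =>
    allFrom_spec _ _ _ fixOK4_4096 k h (by omega)

theorem fixOK4_upto8192 : ∀ k < 8192, pFix fix4 621 5492 16531 k = true := fun k hk =>
  (Nat.lt_or_ge k 6144).elim (fixOK4_upto6144 k) fun h =>
    allFrom_spec _ _ _ fixOK4_6144 k h (by omega)

theorem fixOK4_upto10240 : ∀ k < 10240, pFix fix4 621 5492 16531 k = true := fun k hk =>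
  (Nat.lt_or_ge k 8192).elim (fixOK4_upto8192 k) fun h =>
    allFrom_spec _ _ _ fixOK4_8192 k h (by omega)

theorem fixOK4_upto12288 : ∀ k < 12288, pFix fix4 621 5492 16531 k = true := fun k hk =>
  (Nat.lt_or_ge k 10240).elim (fixOK4_upto10240 k) fun h =>
    allFrom_spec _ _ _ fixOK4_10240 k h (by omega)

theorem fixOK4_upto14336 : ∀ k < 14336, pFix fix4 621 5492 16531 k = true := fun k hk =>
  (Nat.lt_or_ge k 12288).elim (fixOK4_upto12288 k) fun h =>
    allFrom_spec _ _ _ fixOK4_12288 k h (by omega)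

theorem fixOK4_upto16384 : ∀ k < 16384, pFix fix4 621 5492 16531 k = true := fun k hk =>
  (Nat.lt_or_ge k 14336).elim (fixOK4_upto14336 k) fun h =>
    allFrom_spec _ _ _ fixOK4_14336 k h (by omega)

theorem fixOK4_upto18432 : ∀ k < 18432, pFix fix4 621 5492 16531 k = true := fun k hk =>
  (Nat.lt_or_ge k 16384).elim (fixOK4_upto16384 k) fun h =>
    allFrom_spec _ _ _ fixOK4_16384 k h (by omega)

theorem fixOK4_upto20480 : ∀ k < 20480, pFix fix4 621 5492 16531 k = true := fun k hk =>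
  (Nat.lt_or_ge k 18432).elim (fixOK4_upto18432 k) fun h =>
    allFrom_spec _ _ _ fixOK4_18432 k h (by omega)

theorem fixOK4_upto22528 : ∀ k < 22528, pFix fix4 621 5492 16531 k = true := fun k hk =>
  (Nat.lt_or_ge k 20480).elim (fixOK4_upto20480 k) fun h =>
    allFrom_spec _ _ _ fixOK4_20480 k h (by omega)

theorem fixOK4_upto24576 : ∀ k < 24576, pFix fix4 621 5492 16531 k = true := fun k hk =>
  (Nat.lt_or_ge k 22528).elim (fixOK4_upto22528 k) fun h =>
    allFrom_spec _ _ _ fixOK4_22528 k h (by omega)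

theorem fixOK4_upto26624 : ∀ k < 26624, pFix fix4 621 5492 16531 k = true := fun k hk =>
  (Nat.lt_or_ge k 24576).elim (fixOK4_upto24576 k) fun h =>
    allFrom_spec _ _ _ fixOK4_24576 k h (by omega)

theorem fixOK4_upto28672 : ∀ k < 28672, pFix fix4 621 5492 16531 k = true := fun k hk =>
  (Nat.lt_or_ge k 26624).elim (fixOK4_upto26624 k) fun h =>
    allFrom_spec _ _ _ fixOK4_26624 k h (by omega)

theorem fixOK4_upto30720 : ∀ k < 30720, pFix fix4 621 5492 16531 k = true := fun k hk =>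
  (Nat.lt_or_ge k 28672).elim (fixOK4_upto28672 k) fun h =>
    allFrom_spec _ _ _ fixOK4_28672 k h (by omega)

theorem fixOK4_upto31671 : ∀ k < 31671, pFix fix4 621 5492 16531 k = true := fun k hk =>
  (Nat.lt_or_ge k 30720).elim (fixOK4_upto30720 k) fun h =>
    allFrom_spec _ _ _ fixOK4_30720 k h (by omega)

theorem fixOK4_ok : ∀ k < 31671, pFix fix4 621 5492 16531 k = true := fixOK4_upto31671

theorem fixOK5_upto2048 : ∀ k < 2048, pFix fix5 287 14309 22087 k = true := fun k hk =>
  allFrom_spec _ _ _ fixOK5_0 k (Nat.zero_le k) (by omega)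

theorem fixOK5_upto4096 : ∀ k < 4096, pFix fix5 287 14309 22087 k = true := fun k hk =>
  (Nat.lt_or_ge k 2048).elim (fixOK5_upto2048 k) fun h =>
    allFrom_spec _ _ _ fixOK5_2048 k h (by omega)

theorem fixOK5_upto6144 : ∀ k < 6144, pFix fix5 287 14309 22087 k = true := fun k hk =>
  (Nat.lt_or_ge k 4096).elim (fixOK5_upto4096 k) fun h =>
    allFrom_spec _ _ _ fixOK5_4096 k h (by omega)

theorem fixOK5_upto8192 : ∀ k < 8192, pFix fix5 287 14309 22087 k = true := fun k hk =>
  (Nat.lt_or_ge k 6144).elim (fixOK5_upto6144 k) fun h =>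
    allFrom_spec _ _ _ fixOK5_6144 k h (by omega)

theorem fixOK5_upto10240 : ∀ k < 10240, pFix fix5 287 14309 22087 k = true := fun k hk =>
  (Nat.lt_or_ge k 8192).elim (fixOK5_upto8192 k) fun h =>
    allFrom_spec _ _ _ fixOK5_8192 k h (by omega)

theorem fixOK5_upto12288 : ∀ k < 12288, pFix fix5 287 14309 22087 k = true := fun k hk =>
  (Nat.lt_or_ge k 10240).elim (fixOK5_upto10240 k) fun h =>
    allFrom_spec _ _ _ fixOK5_10240 k h (by omega)

theorem fixOK5_upto14336 : ∀ k < 14336, pFix fix5 287 14309 22087 k = true := fun k hk =>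
  (Nat.lt_or_ge k 12288).elim (fixOK5_upto12288 k) fun h =>
    allFrom_spec _ _ _ fixOK5_12288 k h (by omega)

theorem fixOK5_upto16384 : ∀ k < 16384, pFix fix5 287 14309 22087 k = true := fun k hk =>
  (Nat.lt_or_ge k 14336).elim (fixOK5_upto14336 k) fun h =>
    allFrom_spec _ _ _ fixOK5_14336 k h (by omega)

theorem fixOK5_upto18432 : ∀ k < 18432, pFix fix5 287 14309 22087 k = true := fun k hk =>
  (Nat.lt_or_ge k 16384).elim (fixOK5_upto16384 k) fun h =>
    allFrom_spec _ _ _ fixOK5_16384 k h (by omega)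

theorem fixOK5_upto20480 : ∀ k < 20480, pFix fix5 287 14309 22087 k = true := fun k hk =>
  (Nat.lt_or_ge k 18432).elim (fixOK5_upto18432 k) fun h =>
    allFrom_spec _ _ _ fixOK5_18432 k h (by omega)

theorem fixOK5_upto22528 : ∀ k < 22528, pFix fix5 287 14309 22087 k = true := fun k hk =>
  (Nat.lt_or_ge k 20480).elim (fixOK5_upto20480 k) fun h =>
    allFrom_spec _ _ _ fixOK5_20480 k h (by omega)

theorem fixOK5_upto24576 : ∀ k < 24576, pFix fix5 287 14309 22087 k = true := fun k hk =>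
  (Nat.lt_or_ge k 22528).elim (fixOK5_upto22528 k) fun h =>
    allFrom_spec _ _ _ fixOK5_22528 k h (by omega)

theorem fixOK5_upto26624 : ∀ k < 26624, pFix fix5 287 14309 22087 k = true := fun k hk =>
  (Nat.lt_or_ge k 24576).elim (fixOK5_upto24576 k) fun h =>
    allFrom_spec _ _ _ fixOK5_24576 k h (by omega)

theorem fixOK5_upto28672 : ∀ k < 28672, pFix fix5 287 14309 22087 k = true := fun k hk =>
  (Nat.lt_or_ge k 26624).elim (fixOK5_upto26624 k) fun h =>
    allFrom_spec _ _ _ fixOK5_26624 k h (by omega)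

theorem fixOK5_upto30720 : ∀ k < 30720, pFix fix5 287 14309 22087 k = true := fun k hk =>
  (Nat.lt_or_ge k 28672).elim (fixOK5_upto28672 k) fun h =>
    allFrom_spec _ _ _ fixOK5_28672 k h (by omega)

theorem fixOK5_upto31671 : ∀ k < 31671, pFix fix5 287 14309 22087 k = true := fun k hk =>
  (Nat.lt_or_ge k 30720).elim (fixOK5_upto30720 k) fun h =>
    allFrom_spec _ _ _ fixOK5_30720 k h (by omega)

theorem fixOK5_ok : ∀ k < 31671, pFix fix5 287 14309 22087 k = true := fixOK5_upto31671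

end CfsgLib.Fi23Max
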