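import Mathlib

/-!
Solvability of the automorphism group of a binary operation on `AG(2,3)`-indexed blocks of four copies of
`AG(2,3)`.
-/

set_option autoImplicit false
set_option linter.all false

namespace CfsgLib.Fi23Max

open Equiv
open scoped commutatorElement

/-- The affine line operation on nine points. -/
def o (a b : Fin 9) : Fin 9 :=
  if a = b then a else
    ⟨(6 - (a.val % 3 + b.val % 3)) % 3 + 3 * ((6 - (a.val / 3 + b.val / 3)) % 3), by omega⟩

/-- Automorphisms of a binary operation. -/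
def magAut {X : Type*} (T : X → X → X) : Subgroup (Perm X) where
  carrier := {σ | ∀ x y, σ (T x y) = T (σ x) (σ y)}
  one_mem' := fun x y => rfl
  mul_mem' := by
    intro σ τ hσ hτ x y
    simp only [Perm.mul_apply]
    rw [hτ x y, hσ (τ x) (τ y)]
  inv_mem' := by
    intro σ hσ x y
    apply σ.injective
    rw [hσ]
    simp

theorem mem_magAut {X : Type*} (T : X → X → X) (σ : Perm X) :
    σ ∈ magAut T ↔ ∀ x y, σ (T x y) = T (σ x) (σ y) := Iff.rfl

/-- The permutation induced on the fibres of `f`. -/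
noncomputable def fibreHom {P X Y : Type*} [Group P] (φ : P →* Perm X) (f : X → Y) (s : Y → X)
    (hfs : ∀ y, f (s y) = y) (hpres : ∀ (p : P) x x', f x = f x' → f (φ p x) = f (φ p x')) :
    P →* Perm Y :=
  MonoidHom.mk'
    (fun p =>
      { toFun := fun y => f (φ p (s y))
        invFun := fun y => f (φ p⁻¹ (s y))
        left_inv := fun y => by
          show f (φ p⁻¹ (s (f (φ p (s y))))) = y
          rw [hpres p⁻¹ (s (f (φ p (s y)))) (φ p (s y)) (hfs _), map_inv, Perm.inv_def,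
            Equiv.symm_apply_apply, hfs]
        right_inv := fun y => by
          show f (φ p (s (f (φ p⁻¹ (s y))))) = y
          rw [hpres p (s (f (φ p⁻¹ (s y)))) (φ p⁻¹ (s y)) (hfs _), map_inv, Perm.inv_def,
            Equiv.apply_symm_apply, hfs] })
    (fun p q => Equiv.ext fun y => by
      show f (φ (p * q) (s y)) = f (φ p (s (f (φ q (s y)))))
      rw [hpres p (s (f (φ q (s y)))) (φ q (s y)) (hfs _), map_mul, Perm.mul_apply])

theorem fibreHom_apply {P X Y : Type*} [Group P] (φ : P →* Perm X) (f : X → Y) (s : Y → X)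
    (hfs : ∀ y, f (s y) = y) (hpres : ∀ (p : P) x x', f x = f x' → f (φ p x) = f (φ p x')) (p : P) (y : Y) :
    fibreHom φ f s hfs hpres p y = f (φ p (s y)) := rfl

theorem isSolvable_perm_four : Group.IsSolvable (Perm (Fin 4)) := by
  haveI h4 : Group.IsSolvable (alternatingGroup (Fin 4)) := by
    refine (Group.isSolvable_def _).2 ⟨2, ?_⟩
    rw [derivedSeries_succ, derivedSeries_one]
    rw [Subgroup.eq_bot_iff_forall]
    intro x hx
    have hV : commutator (alternatingGroup (Fin 4)) ≤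
        { carrier := {g | g * g = 1}
          one_mem' := one_mul 1
          mul_mem' := fun {a b} ha hb => by revert a b; decide +kernel
          inv_mem' := fun {a} ha => by revert a; decide +kernel } := by
      rw [commutator_def, Subgroup.commutator_le]
      intro a _ b _
      have key : ∀ a b : alternatingGroup (Fin 4), ⁅a, b⁆ * ⁅a, b⁆ = 1 := by decide +kernel
      exact key a b
    have hab : ∀ a ∈ commutator (alternatingGroup (Fin 4)),
        ∀ b ∈ commutator (alternatingGroup (Fin 4)), ⁅a, b⁆ ∈ (⊥ : Subgroup _) := by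
      intro a ha b hb
      have key : ∀ a b : alternatingGroup (Fin 4), a * a = 1 → b * b = 1 → ⁅a, b⁆ = 1 := by
        decide +kernel
      exact key a b (hV ha) (hV hb)
    exact Subgroup.commutator_le.2 hab hx
  exact Group.isSolvable_of_ker_le_range (alternatingGroup (Fin 4)).subtype Perm.sign
    (by rw [Subgroup.range_subtype, alternatingGroup_eq_sign_ker])

theorem isSolvable_perm_three : Group.IsSolvable (Perm (Fin 3)) := by
  haveI := isSolvable_perm_four
  exact Group.isSolvable_of_isSolvable_injective (f := Perm.viaEmbeddingHom (Fin.castSuccEmb : Fin 3 ↪ Fin 4))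
    (Perm.viaEmbeddingHom_injective _)

theorem derivedSeries_pi_apply {ι : Type*} {H : Type*} [Group H] (n : ℕ) (i : ι)
    {f : ι → H} (hf : f ∈ derivedSeries (ι → H) n) : f i ∈ derivedSeries H n :=
  map_derivedSeries_le_derivedSeries (Pi.evalMonoidHom (fun _ : ι => H) i) n ⟨f, hf, rfl⟩

theorem isSolvable_pi (ι H : Type*) [Group H] [hH : Group.IsSolvable H] : Group.IsSolvable (ι → H) := by
  obtain ⟨n, hn⟩ := (Group.isSolvable_def H).1 hH
  refine (Group.isSolvable_def _).2 ⟨n, ?_⟩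
  rw [Subgroup.eq_bot_iff_forall]
  intro f hf
  funext i
  exact Subgroup.mem_bot.1 (hn ▸ derivedSeries_pi_apply n i hf)

theorem isSolvable_of_hom {P Q : Type*} [Group P] [Group Q] (φ : P →* Q) (hQ : Group.IsSolvable Q)
    (hk : Group.IsSolvable φ.ker) : Group.IsSolvable P := by
  haveI := hQ
  haveI := hk
  exact Group.isSolvable_of_ker_le_range φ.ker.subtype φ (by rw [Subgroup.range_subtype])

/-! ### `AG(2,3)` -/

/-- The parallel class of a line. -/
def dir (a b : Fin 9) : Fin 4 :=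
  if a.val / 3 = b.val / 3 then 0
  else if a.val % 3 = b.val % 3 then 1
  else if (b.val % 3 + a.val / 3) % 3 = (a.val % 3 + b.val / 3) % 3 then 2 else 3

/-- The line through `a` and `b` meets the line through `c` and `d` in no point or in all. -/
def par (a b c d : Fin 9) : Prop :=
  (c = a ∨ c = b ∨ c = o a b) ∧ (d = a ∨ d = b ∨ d = o a b) ∨
    (¬(c = a ∨ c = b ∨ c = o a b) ∧ ¬(d = a ∨ d = b ∨ d = o a b) ∧
      ¬(o c d = a ∨ o c d = b ∨ o c d = o a b))

instance (a b c d : Fin 9) : Decidable (par a b c d) := by unfold par; infer_instance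

theorem par_iff : ∀ a b c d : Fin 9, a ≠ b → c ≠ d → (par a b c d ↔ dir a b = dir c d) := by decide +kernel

theorem par_map {τ : Perm (Fin 9)} (hτ : τ ∈ magAut o) (a b c d : Fin 9) (h : par a b c d) :
    par (τ a) (τ b) (τ c) (τ d) := by
  have h' := (mem_magAut o τ).1 hτ
  unfold par at *
  simpa only [← h', τ.injective.eq_iff] using h

/-- A line of each parallel class. -/
def dirRep : Fin 4 → Fin 9 := ![1, 3, 4, 5]

theorem dir_rep : ∀ i, dir 0 (dirRep i) = i := by decide +kernel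

theorem rep_ne : ∀ i, (0 : Fin 9) ≠ dirRep i := by decide +kernel

theorem isSolvable_magAut_o : Group.IsSolvable (magAut o) := by
  classical
  set A := magAut o with hA
  let pairs := {p : Fin 9 × Fin 9 // p.1 ≠ p.2}
  let ψ : A →* Perm pairs :=
    MonoidHom.mk' (fun τ =>
      { toFun := fun p => ⟨((τ : Perm (Fin 9)) p.1.1, (τ : Perm (Fin 9)) p.1.2), fun h => p.2 ((τ : Perm (Fin 9)).injective h)⟩
        invFun := fun p => ⟨((τ : Perm (Fin 9))⁻¹ p.1.1, (τ : Perm (Fin 9))⁻¹ p.1.2), fun h => p.2 ((τ : Perm (Fin 9))⁻¹.injective h)⟩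
        left_inv := fun p => Subtype.ext (by simp)
        right_inv := fun p => Subtype.ext (by simp) })
      (fun σ τ => Equiv.ext fun p => rfl)
  have hψ : ∀ (τ : A) (p : pairs), (ψ τ p).1 = ((τ : Perm (Fin 9)) p.1.1, (τ : Perm (Fin 9)) p.1.2) := fun _ _ => rfl
  let χ : A →* Perm (Fin 4) := fibreHom ψ (fun p => dir p.1.1 p.1.2) (fun i => ⟨(0, dirRep i), rep_ne i⟩)
    dir_rep (fun τ p q h => by
      simp only [hψ]
      refine (par_iff _ _ _ _ (fun h' => p.2 ((τ : Perm (Fin 9)).injective h'))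
        (fun h' => q.2 ((τ : Perm (Fin 9)).injective h'))).1 ?_
      exact par_map τ.2 _ _ _ _ ((par_iff _ _ _ _ p.2 q.2).2 h))
  refine isSolvable_of_hom χ isSolvable_perm_four ?_
  have hχ : ∀ τ : χ.ker, ∀ a b : Fin 9, a ≠ b →
      dir (((τ : A) : Perm (Fin 9)) a) (((τ : A) : Perm (Fin 9)) b) = dir a b := by
    intro τ a b hab
    have h1 : χ (τ : A) (dir a b) = dir a b := by
      rw [MonoidHom.mem_ker.1 τ.2, Perm.one_apply]
    have h2 : par a b 0 (dirRep (dir a b)) := (par_iff _ _ _ _ hab (rep_ne _)).2 (dir_rep _).symm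
    have h3 := (par_iff _ _ _ _ (fun h' => hab (((τ : A) : Perm (Fin 9)).injective h'))
      (fun h' => rep_ne _ (((τ : A) : Perm (Fin 9)).injective h'))).1 (par_map (τ : A).2 _ _ _ _ h2)
    rw [h3]
    exact h1
  -- lines of two parallel classes
  let φ : χ.ker →* Perm (Fin 9) := A.subtype.comp χ.ker.subtype
  have key0 : ∀ a b : Fin 9, a ≠ b → (a.val / 3 = b.val / 3 ↔ dir a b = 0) := by decide +kernel
  have key1 : ∀ a b : Fin 9, a ≠ b → (a.val % 3 = b.val % 3 ↔ dir a b = 1) := by decide +kernel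
  let L0 : χ.ker →* Perm (Fin 3) := fibreHom φ (fun a => (⟨a.val / 3, by omega⟩ : Fin 3))
    (fun i => ⟨3 * i.val, by omega⟩) (fun i => Fin.ext (by simp))
    (fun τ a b h => by
      rcases eq_or_ne a b with rfl | hab
      · rfl
      · refine Fin.ext ((key0 _ _ (fun h' => hab ((φ τ).injective h'))).2 ?_)
        exact (hχ τ a b hab).trans ((key0 _ _ hab).1 (Fin.ext_iff.1 h)))
  let L1 : χ.ker →* Perm (Fin 3) := fibreHom φ (fun a => (⟨a.val % 3, by omega⟩ : Fin 3))
    (fun i => ⟨i.val, by omega⟩) (fun i => Fin.ext (by simp))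
    (fun τ a b h => by
      rcases eq_or_ne a b with rfl | hab
      · rfl
      · refine Fin.ext ((key1 _ _ (fun h' => hab ((φ τ).injective h'))).2 ?_)
        exact (hχ τ a b hab).trans ((key1 _ _ hab).1 (Fin.ext_iff.1 h)))
  haveI := isSolvable_perm_three
  refine Group.isSolvable_of_isSolvable_injective (f := L0.prod L1) ((injective_iff_map_eq_one _).2 fun τ hτ => ?_)
  obtain ⟨h0, h1⟩ := Prod.ext_iff.1 hτ
  apply Subtype.ext; apply Subtype.ext
  ext a
  have e0 : L0 τ (⟨a.val / 3, by omega⟩ : Fin 3) = ⟨a.val / 3, by omega⟩ := by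
    have : L0 τ = 1 := h0
    rw [this, Perm.one_apply]
  have e1 : L1 τ (⟨a.val % 3, by omega⟩ : Fin 3) = ⟨a.val % 3, by omega⟩ := by
    have : L1 τ = 1 := h1
    rw [this, Perm.one_apply]
  have hpres0 : ∀ b c : Fin 9, b.val / 3 = c.val / 3 → (φ τ b).val / 3 = (φ τ c).val / 3 := by
    intro b c h
    rcases eq_or_ne b c with rfl | hbc
    · rfl
    · exact (key0 _ _ (fun h' => hbc ((φ τ).injective h'))).2 ((hχ τ b c hbc).trans ((key0 _ _ hbc).1 h))
  have hpres1 : ∀ b c : Fin 9, b.val % 3 = c.val % 3 → (φ τ b).val % 3 = (φ τ c).val % 3 := by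
    intro b c h
    rcases eq_or_ne b c with rfl | hbc
    · rfl
    · exact (key1 _ _ (fun h' => hbc ((φ τ).injective h'))).2 ((hχ τ b c hbc).trans ((key1 _ _ hbc).1 h))
  have f0 : (φ τ a).val / 3 = a.val / 3 := by
    have := Fin.ext_iff.1 e0
    simp only [L0, fibreHom_apply] at this
    rw [hpres0 a ⟨3 * (a.val / 3), by omega⟩ (by simp)]
    exact this
  have f1 : (φ τ a).val % 3 = a.val % 3 := by
    have := Fin.ext_iff.1 e1
    simp only [L1, fibreHom_apply] at this
    rw [hpres1 a ⟨a.val % 3, by omega⟩ (by simp)]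
    exact this
  show (φ τ a).val = a.val
  omega

/-! ### Nine blocks of four planes -/

/-- Index set: plane, part, point. -/
abbrev Idx := Fin 9 × Fin 4 × Fin 9

theorem isSolvable_magAut (T : Idx → Idx → Idx) (h1 : ∀ x y, (T x y).1 = o x.1 y.1)
    (h2 : ∀ x y, T x y = y ↔ (x.1 = y.1 ∧ (x.2.1 ≠ y.2.1 ∨ x = y)))
    (h3 : ∀ x y : Idx, x.1 = y.1 → x.2.1 = y.2.1 → T x y = (x.1, x.2.1, o x.2.2 y.2.2)) :
    Group.IsSolvable (magAut T) := by
  classical
  haveI := isSolvable_perm_four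
  let P := magAut T
  have hσ : ∀ (σ : P) x y, (σ : Perm Idx) (T x y) = T ((σ : Perm Idx) x) ((σ : Perm Idx) y) := fun σ => σ.2
  have hcomm : ∀ (σ : P) x y, T x y = y → T ((σ : Perm Idx) x) ((σ : Perm Idx) y) = (σ : Perm Idx) y :=
    fun σ x y h => by rw [← hσ, h]
  have hcomp : ∀ (σ : P) (x y : Idx), x.1 = y.1 → ((σ : Perm Idx) x).1 = ((σ : Perm Idx) y).1 := by
    intro σ x y h
    by_cases hp : x.2.1 = y.2.1
    · let w : Idx := (x.1, x.2.1 + 1, 0)
      have hne : x.2.1 ≠ x.2.1 + 1 := (by decide : ∀ p : Fin 4, p ≠ p + 1) _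
      have a1 : T x w = w := (h2 x w).2 ⟨rfl, Or.inl hne⟩
      have a2 : T w y = y := (h2 w y).2 ⟨h, Or.inl (fun h' => hne (hp.trans h'.symm))⟩
      exact ((h2 _ _).1 (hcomm σ _ _ a1)).1.trans ((h2 _ _).1 (hcomm σ _ _ a2)).1
    · exact ((h2 _ _).1 (hcomm σ _ _ ((h2 x y).2 ⟨h, Or.inl hp⟩))).1
  have hpart : ∀ (σ : P) (x y : Idx), x.1 = y.1 → x.2.1 = y.2.1 →
      ((σ : Perm Idx) x).2.1 = ((σ : Perm Idx) y).2.1 := by
    intro σ x y h hp
    by_contra hne
    have a1 : T ((σ : Perm Idx) x) ((σ : Perm Idx) y) = (σ : Perm Idx) y :=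
      (h2 _ _).2 ⟨hcomp σ x y h, Or.inl hne⟩
    rw [← hσ] at a1
    rcases ((h2 x y).1 ((σ : Perm Idx).injective a1)).2 with h' | h'
    · exact h' hp
    · exact hne (by rw [h'])
  let χ : P →* magAut o :=
    (fibreHom P.subtype (fun x : Idx => x.1) (fun c => (c, 0, 0)) (fun _ => rfl) hcomp).codRestrict _ (fun σ => by
      rw [mem_magAut]
      intro a b
      show ((σ : Perm Idx) (o a b, 0, 0)).1 = o ((σ : Perm Idx) (a, 0, 0)).1 ((σ : Perm Idx) (b, 0, 0)).1
      rw [← h1 ((σ : Perm Idx) (a, 0, 0)) ((σ : Perm Idx) (b, 0, 0)), ← hσ]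
      exact hcomp σ _ _ (by rw [h1]))
  refine isSolvable_of_hom χ isSolvable_magAut_o ?_
  have hfix1 : ∀ (σ : χ.ker) (x : Idx), (((σ : P) : Perm Idx) x).1 = x.1 := by
    intro σ x
    have e : (χ (σ : P) : Perm (Fin 9)) x.1 = x.1 := by
      rw [MonoidHom.mem_ker.1 σ.2]; rfl
    exact (hcomp σ x (x.1, 0, 0) rfl).trans e
  let φ : χ.ker →* Perm Idx := P.subtype.comp χ.ker.subtype
  let Q : χ.ker →* Perm (Fin 9 × Fin 4) := fibreHom φ (fun x : Idx => (x.1, x.2.1)) (fun q => (q.1, q.2, 0))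
    (fun _ => rfl) (fun σ x y h => by
      obtain ⟨ha, hb⟩ := Prod.ext_iff.1 h
      exact Prod.ext (hcomp σ x y ha) (hpart σ x y ha hb))
  have hQ1 : ∀ (σ : χ.ker) q, (Q σ q).1 = q.1 := fun σ q => hfix1 σ (q.1, q.2, 0)
  let R : χ.ker →* (Fin 9 → Perm (Fin 4)) := MonoidHom.mk'
    (fun σ c =>
      { toFun := fun p => (Q σ (c, p)).2
        invFun := fun p => (Q σ⁻¹ (c, p)).2
        left_inv := fun p => by
          have e : ((c, (Q σ (c, p)).2) : Fin 9 × Fin 4) = Q σ (c, p) := Prod.ext (hQ1 σ (c, p)).symm rfl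
          show (Q σ⁻¹ (c, (Q σ (c, p)).2)).2 = p
          rw [e, map_inv]; simp
        right_inv := fun p => by
          have e : ((c, (Q σ⁻¹ (c, p)).2) : Fin 9 × Fin 4) = Q σ⁻¹ (c, p) := Prod.ext (hQ1 σ⁻¹ (c, p)).symm rfl
          show (Q σ (c, (Q σ⁻¹ (c, p)).2)).2 = p
          rw [e, map_inv]; simp })
    (fun σ τ => by
      funext c
      refine Equiv.ext fun p => ?_
      have e : ((c, (Q τ (c, p)).2) : Fin 9 × Fin 4) = Q τ (c, p) := Prod.ext (hQ1 τ (c, p)).symm rfl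
      show (Q (σ * τ) (c, p)).2 = (Q σ (c, (Q τ (c, p)).2)).2
      rw [e, map_mul, Perm.mul_apply])
  haveI := isSolvable_pi (Fin 9) (Perm (Fin 4))
  refine isSolvable_of_hom R inferInstance ?_
  have hfix2 : ∀ (σ : R.ker) (x : Idx), ((φ (σ : χ.ker)) x).1 = x.1 ∧ ((φ (σ : χ.ker)) x).2.1 = x.2.1 := by
    intro σ x
    refine ⟨hfix1 _ x, ?_⟩
    have e : (R (σ : χ.ker) x.1) x.2.1 = x.2.1 := by
      rw [MonoidHom.mem_ker.1 σ.2]; rfl
    exact (hpart (σ : χ.ker).1 x (x.1, x.2.1, 0) rfl rfl).trans e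
  haveI := isSolvable_magAut_o
  let S : R.ker →* (Fin 9 × Fin 4 → magAut o) := MonoidHom.mk'
    (fun σ q =>
      ⟨{ toFun := fun a => (φ (σ : χ.ker) (q.1, q.2, a)).2.2
         invFun := fun a => (φ ((σ⁻¹ : R.ker) : χ.ker) (q.1, q.2, a)).2.2
         left_inv := fun a => by
          have e : ((q.1, q.2, (φ (σ : χ.ker) (q.1, q.2, a)).2.2) : Idx) = φ (σ : χ.ker) (q.1, q.2, a) :=
            Prod.ext (hfix2 σ (q.1, q.2, a)).1.symm (Prod.ext (hfix2 σ (q.1, q.2, a)).2.symm rfl)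
          show (φ ((σ⁻¹ : R.ker) : χ.ker) (q.1, q.2, (φ (σ : χ.ker) (q.1, q.2, a)).2.2)).2.2 = a
          rw [e, Subgroup.coe_inv, map_inv]; simp
         right_inv := fun a => by
          have e : ((q.1, q.2, (φ ((σ⁻¹ : R.ker) : χ.ker) (q.1, q.2, a)).2.2) : Idx) =
              φ ((σ⁻¹ : R.ker) : χ.ker) (q.1, q.2, a) :=
            Prod.ext (hfix2 σ⁻¹ (q.1, q.2, a)).1.symm (Prod.ext (hfix2 σ⁻¹ (q.1, q.2, a)).2.symm rfl)
          show (φ (σ : χ.ker) (q.1, q.2, (φ ((σ⁻¹ : R.ker) : χ.ker) (q.1, q.2, a)).2.2)).2.2 = a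
          rw [e, Subgroup.coe_inv, map_inv]; simp },
        (mem_magAut _ _).2 fun a b => by
          show (φ (σ : χ.ker) (q.1, q.2, o a b)).2.2 =
            o (φ (σ : χ.ker) (q.1, q.2, a)).2.2 (φ (σ : χ.ker) (q.1, q.2, b)).2.2
          rw [← (h3 (q.1, q.2, a) (q.1, q.2, b) rfl rfl)]
          have := hσ ((σ : χ.ker) : P) (q.1, q.2, a) (q.1, q.2, b)
          change (((σ : χ.ker) : P) : Perm Idx) _ = _ at this
          show ((((σ : χ.ker) : P) : Perm Idx) _).2.2 = _
          rw [this]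
          show (T (φ (σ : χ.ker) (q.1, q.2, a)) (φ (σ : χ.ker) (q.1, q.2, b))).2.2 = _
          rw [h3 _ _ ((hfix2 σ (q.1, q.2, a)).1.trans (hfix2 σ (q.1, q.2, b)).1.symm)
            ((hfix2 σ (q.1, q.2, a)).2.trans (hfix2 σ (q.1, q.2, b)).2.symm)]
⟩)
    (fun σ τ => by
      funext q
      refine Subtype.ext (Equiv.ext fun a => ?_)
      have e : ((q.1, q.2, (φ (τ : χ.ker) (q.1, q.2, a)).2.2) : Idx) = φ (τ : χ.ker) (q.1, q.2, a) :=
        Prod.ext (hfix2 τ (q.1, q.2, a)).1.symm (Prod.ext (hfix2 τ (q.1, q.2, a)).2.symm rfl)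
      show (φ ((σ * τ : R.ker) : χ.ker) (q.1, q.2, a)).2.2 =
        (φ (σ : χ.ker) (q.1, q.2, (φ (τ : χ.ker) (q.1, q.2, a)).2.2)).2.2
      rw [e, Subgroup.coe_mul, map_mul, Perm.mul_apply])
  haveI := isSolvable_pi (Fin 9 × Fin 4) (magAut o)
  refine Group.isSolvable_of_isSolvable_injective (f := S) ((injective_iff_map_eq_one _).2 fun σ hσ1 => ?_)
  apply Subtype.ext; apply Subtype.ext; apply Subtype.ext
  refine Equiv.ext fun x => ?_
  have e : ((S σ (x.1, x.2.1) : magAut o) : Perm (Fin 9)) x.2.2 = x.2.2 := by rw [hσ1]; rfl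
  exact Prod.ext (hfix2 σ x).1 (Prod.ext (hfix2 σ x).2 e)

end CfsgLib.Fi23Max
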