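import Cfsg.Agent.Lib.CosetEnum.Fi23.ThreeTrans
import Cfsg.Agent.Lib.Fi23Max.Checks
import Cfsg.Agent.Lib.Fi23Max.Struct

/-!
The setwise stabiliser in `Fi23` of the 324 transpositions centralising a 3B element: maximal and solvable.
-/

set_option autoImplicit false
set_option linter.all false

namespace CfsgLib.Fi23Max

open CfsgLib.CosetEnum
open CfsgLib.CosetEnum.Fi23 (table zCol π z zw)

local notation "G" => Cfsg.Spor.Fi23
local notation "ip" => (18364758544493064720 : ℕ)

abbrev Pt := Fin 31671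

/-- The element of a word. -/
def W (l : List ℕ) : G := (l.map Fi23.g).prod

/-- A point from a number. -/
def pt (n : ℕ) : Pt := if h : n < 31671 then ⟨n, h⟩ else ⟨0, by omega⟩

theorem pt_val (n : ℕ) (h : n < 31671) : ((pt n : Pt) : ℕ) = n := by simp [pt, h]

theorem pt_eq (k : Pt) : pt k = k := by simp [pt, k.2]

theorem beq_iff (a b : ℕ) : Nat.beq a b = true ↔ a = b :=
  ⟨Nat.eq_of_beq_eq_true, fun h => h ▸ Nat.beq_refl a⟩

theorem blt_iff (a b : ℕ) : Nat.blt a b = true ↔ a < b :=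
  ⟨fun h => Nat.le_of_ble_eq_true h, fun h => Nat.ble_eq_true_of_le h⟩

theorem W_inv (p : List ℕ) (hp : ∀ x ∈ p, x < 16) : (W p.reverse)⁻¹ = W p := by
  unfold W
  rw [Fi23.word_inv _ (fun x hx => hp x (List.mem_reverse.mp hx)), List.reverse_reverse]

theorem π_word (p : List ℕ) (hp : ∀ x ∈ p, x < 16) (k : Pt) :
    ((π (W p.reverse) k : Pt) : ℕ) = scan table p k := by
  have hinvw : invWord ip p = p.reverse := by
    unfold invWord
    rw [List.map_congr_left (g := id) (fun x hx => Fi23.linv_eq x (hp x hx)), List.map_id]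
  have h := prod_invWord_apply table ip 31671 Fi23.ip_ok Fi23.row_ok p hp k
  rw [hinvw] at h
  rw [← h]
  unfold W
  rw [map_list_prod, List.map_map, List.map_congr_left (f := ⇑π ∘ Fi23.g)
    (g := permOf table ip 31671 Fi23.ip_ok Fi23.row_ok) (fun x hx => Fi23.hπ x (hp x (List.mem_reverse.mp hx)))]

theorem π_word' (p : List ℕ) (hp : ∀ x ∈ p, x < 16) (k : Pt) :
    ((π (W p) k : Pt) : ℕ) = scan table p.reverse k := by
  have := π_word p.reverse (fun x hx => hp x (List.mem_reverse.mp hx)) k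
  rwa [List.reverse_reverse] at this

theorem π_z (k : Pt) : ((π z k : Pt) : ℕ) = zCol.get 20 k := by
  have hz : z = W zw.reverse := by
    have h1 : z⁻¹ = z := by
      rw [inv_eq_iff_mul_eq_one, ← pow_two, ← Fi23.orderOf_z, pow_orderOf_eq_one]
    calc z = z⁻¹ := h1.symm
      _ = _ := by unfold z W; rw [Fi23.word_inv _ Fi23.zw_lt]
  rw [hz, π_word _ Fi23.zw_lt, Fi23.zc_eq _ k.2]

/-- The base point. -/
abbrev base : Pt := ⟨0, by omega⟩

/-- The transposition of a point. -/
noncomputable def d (k : Pt) : G :=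
  (Fi23.transitive (by omega) k).choose * z * ((Fi23.transitive (by omega) k).choose)⁻¹

theorem d_eq (k : Pt) (w : G) (hw : π w base = k) : d k = w * z * w⁻¹ := by
  unfold d
  set v := (Fi23.transitive (by omega) k).choose
  have hv : π v base = k := (Fi23.transitive (by omega) k).choose_spec
  have hh : v⁻¹ * w ∈ Fi23.H := Fi23.mem_of_fix _ (by
    rw [map_mul, Equiv.Perm.mul_apply, hw, ← hv, map_inv, Equiv.Perm.inv_def, Equiv.symm_apply_apply])
  have := Fi23.z_comm _ hh
  calc v * z * v⁻¹ = v * (z * (v⁻¹ * w)) * w⁻¹ := by group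
    _ = v * ((v⁻¹ * w) * z) * w⁻¹ := by rw [this]
    _ = w * z * w⁻¹ := by group

theorem d_conj (w : G) (k : Pt) : w * d k * w⁻¹ = d (π w k) := by
  obtain ⟨v, hv⟩ := Fi23.transitive (by omega) k
  rw [d_eq k v hv, d_eq (π w k) (w * v) (by rw [map_mul, Equiv.Perm.mul_apply, hv])]
  group

theorem d_base : d base = z := by rw [d_eq base 1 (by simp)]; group

theorem d_inv (k : Pt) : (d k)⁻¹ = d k := by
  obtain ⟨v, hv⟩ := Fi23.transitive (by omega) k
  have h1 : z⁻¹ = z := by
    rw [inv_eq_iff_mul_eq_one, ← pow_two, ← Fi23.orderOf_z, pow_orderOf_eq_one]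
  rw [d_eq k v hv, mul_inv_rev, mul_inv_rev, inv_inv, h1, mul_assoc]

theorem π_d (p : List ℕ) (hp : ∀ x ∈ p, x < 16) (k : Pt) :
    ((π (d (pt (scan table p 0))) k : Pt) : ℕ) = dScan p k := by
  have h0 : π (W p.reverse) base = pt (scan table p 0) := Fin.ext (by
    rw [π_word p hp, pt_val _ (Fi23.scan_lt p hp 0 (by omega))])
  rw [d_eq _ _ h0, W_inv p hp, map_mul, map_mul, Equiv.Perm.mul_apply, Equiv.Perm.mul_apply, π_word p hp,
    π_z, π_word' p hp]
  unfold dScan
  rw [strict_eq, strict_eq]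

/-! ### The seven generators -/

theorem kp_lt : ∀ j < 5, ∀ x ∈ kp.getD j [], x < 16 := by decide +kernel

theorem kp_lab : ∀ j < 5, Nat.beq (lab.get 20 (scan table (kp.getD j []) 0)) 0 = true := by decide +kernel

/-- The subgroup generated by the listed transpositions. -/
noncomputable def K0 : Subgroup G :=
  Subgroup.closure {w | ∃ j < 5, w = d (pt (scan table (kp.getD j []) 0))}

theorem ktab_eq (j : ℕ) (hj : j < 5) (k : Pt) :
    ((π (d (pt (scan table (kp.getD j []) 0))) k : Pt) : ℕ) = act ktab j k := by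
  rw [π_d _ (kp_lt j hj)]
  exact ((beq_iff _ _).1 (allFrom_spec _ _ _ (kcolOK_ok k k.2) j (Nat.zero_le _) (by omega))).symm

theorem realised : Realised π K0 ktab := fun j hj =>
  ⟨_, Subgroup.subset_closure ⟨j, hj, rfl⟩, fun k => ktab_eq j hj k⟩

theorem generated : Generated π K0 ktab :=
  (Subgroup.closure_le _).mpr (by
    rintro w ⟨j, hj, rfl⟩
    exact Subgroup.subset_closure ⟨j, hj, fun k => ktab_eq j hj k⟩)

theorem orbit_rows : ∀ k < 31671, orbitRowOK ktab lab opar oroot 31671 k = true := by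
  intro k hk
  have := orbOK_ok k hk
  unfold pO at this
  exact (Bool.and_eq_true _ _ ▸ this).1

theorem lab_lt6 (k : Pt) : lab.get 20 k < 6 := by
  have := orbOK_ok k k.2
  unfold pO at this
  exact (blt_iff _ _).1 (Bool.and_eq_true _ _ ▸ this).2

theorem K0_lab (w : G) (hw : w ∈ K0) (k : Pt) : lab.get 20 (π w k : Pt) = lab.get 20 k :=
  label_invariant π K0 ktab generated lab opar oroot orbit_rows w hw k

theorem roots_ok : ∀ c < 6, (Nat.blt (oroot.get 20 c) 31671 && Nat.beq (lab.get 20 (oroot.get 20 c)) c) = true := by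
  decide +kernel

/-- The root of a class. -/
noncomputable def rootPt (c : ℕ) : Pt := pt (oroot.get 20 c)

theorem from_root (k : Pt) : ∃ h ∈ K0, π h (rootPt (lab.get 20 k)) = k := by
  have hr := roots_ok _ (lab_lt6 k)
  rw [Bool.and_eq_true, blt_iff] at hr
  have h := orbit_class π K0 ktab realised generated lab opar oroot orbit_rows (rootPt (lab.get 20 k))
    (lab.get 20 k) (by rw [rootPt, pt_val _ hr.1]; exact hr.2) (by rw [rootPt, pt_val _ hr.1]; exact Nat.beq_refl _)
  exact (Set.ext_iff.mp h k).mpr rfl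

theorem same_class (k k' : Pt) (h : lab.get 20 k = lab.get 20 k') : ∃ w ∈ K0, π w k = k' := by
  obtain ⟨a, ha, hak⟩ := from_root k
  obtain ⟨b, hb, hbk⟩ := from_root k'
  refine ⟨b * a⁻¹, K0.mul_mem hb (K0.inv_mem ha), ?_⟩
  rw [map_mul, Equiv.Perm.mul_apply, map_inv]
  rw [show (π a)⁻¹ k = rootPt (lab.get 20 k) by rw [Equiv.Perm.inv_def, Equiv.symm_apply_eq, hak], h, hbk]

theorem lab_base : lab.get 20 (base : Pt) = 0 := (beq_iff _ _).1 (show Nat.beq (lab.get 20 0) 0 = true by decide +kernel)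

theorem d_mem_K0 (k : Pt) (hk : lab.get 20 k = 0) : d k ∈ K0 := by
  obtain ⟨w, hw, hwk⟩ := same_class base k (lab_base.trans hk.symm)
  rw [← hwk, ← d_conj]
  refine K0.mul_mem (K0.mul_mem hw ?_) (K0.inv_mem hw)
  have : base = pt (scan table (kp.getD 0 []) 0) := Fin.ext (by
    rw [pt_val _ (Fi23.scan_lt _ (kp_lt 0 (by omega)) 0 (by omega))]
    exact (beq_iff _ _).1 (show Nat.beq 0 (scan table (kp.getD 0 []) 0) = true by decide +kernel))
  rw [this]
  exact Subgroup.subset_closure ⟨0, by omega, rfl⟩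

/-! ### The stabiliser -/

/-- The stabiliser of the 324-set. -/
noncomputable def Hs : Subgroup G where
  carrier := {w | ∀ k : Pt, lab.get 20 (π w k : Pt) = 0 ↔ lab.get 20 k = 0}
  one_mem' := fun k => by simp
  mul_mem' := fun {a b} ha hb k => by rw [map_mul, Equiv.Perm.mul_apply]; exact (ha _).trans (hb k)
  inv_mem' := fun {a} ha k => by
    have h := ha (π a⁻¹ k)
    rw [← Equiv.Perm.mul_apply, ← map_mul, mul_inv_cancel, map_one, Equiv.Perm.one_apply] at h
    exact h.symm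

theorem mem_Hs (w : G) : w ∈ Hs ↔ ∀ k : Pt, lab.get 20 (π w k : Pt) = 0 ↔ lab.get 20 k = 0 := Iff.rfl

theorem K0_le : K0 ≤ Hs := fun w hw => (mem_Hs w).2 fun k => by rw [K0_lab w hw k]

theorem hOK_spec (w : List ℕ) (h : allFrom (fun i => pH w i) 324 0 = true) (hw : ∀ x ∈ w, x < 16) :
    W w.reverse ∈ Hs := by
  have key : ∀ k : Pt, lab.get 20 k = 0 →
      lab.get 20 (π (W w.reverse) k : Pt) = 0 ∧ lab.get 20 (π (W w) k : Pt) = 0 := by
    intro k hk
    have hp := posOK_ok k k.2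
    unfold pPos at hp
    rw [(beq_iff _ _).2 hk] at hp
    simp only [Bool.and_eq_true, blt_iff, beq_iff] at hp
    have := allFrom_spec _ _ _ h (pos.get 9 k) (Nat.zero_le _) (by omega)
    unfold pH at this
    rw [hp.2] at this
    simp only [Bool.and_eq_true, beq_iff] at this
    exact ⟨by rw [π_word w hw]; exact this.1, by rw [π_word' w hw]; exact this.2⟩
  refine (mem_Hs _).2 fun k => ⟨fun hk => ?_, fun hk => (key k hk).1⟩
  have h2 := (key _ hk).2
  rwa [← W_inv w hw, ← Equiv.Perm.mul_apply, ← map_mul, inv_mul_cancel, map_one, Equiv.Perm.one_apply] at h2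

theorem hw_lt : (∀ x ∈ hw0, x < 16) ∧ (∀ x ∈ hw1, x < 16) ∧ (∀ x ∈ hw2, x < 16) := by decide +kernel

theorem h0_mem : W hw0.reverse ∈ Hs := hOK_spec _ hOK0 hw_lt.1
theorem h1_mem : W hw1.reverse ∈ Hs := hOK_spec _ hOK1 hw_lt.2.1
theorem h2_mem : W hw2.reverse ∈ Hs := hOK_spec _ hOK2 hw_lt.2.2

/-! ### Maximality -/

section Max

variable (M : Subgroup G) (hM : Hs ≤ M)

include hM in
theorem edge (w : G) (hw : w ∈ M) (k b : ℕ) (hk : k < 31671) (hb : lab.get 20 ((π w (pt k) : Pt) : ℕ) = b)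
    (h : ∀ j : Pt, lab.get 20 j = lab.get 20 k → d j ∈ M) : ∀ j : Pt, lab.get 20 j = b → d j ∈ M := by
  intro j hj
  obtain ⟨u, hu, huj⟩ := same_class (π w (pt k)) j (hb.trans hj.symm)
  rw [← huj, ← d_conj, ← d_conj]
  have h0 := hM (K0_le hu)
  exact M.mul_mem (M.mul_mem h0 (M.mul_mem (M.mul_mem hw (h _ (by rw [pt_val k hk]))) (M.inv_mem hw))) (M.inv_mem h0)

include hM in
theorem edgeW (p : List ℕ) (hp : ∀ x ∈ p, x < 16) (hw : W p.reverse ∈ M) (k a b : ℕ)
    (h1 : (Nat.blt k 31671 && Nat.beq (lab.get 20 k) a && Nat.beq (lab.get 20 (scan table p k)) b) = true)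
    (h : ∀ j : Pt, lab.get 20 j = a → d j ∈ M) : ∀ j : Pt, lab.get 20 j = b → d j ∈ M := by
  simp only [Bool.and_eq_true, blt_iff, beq_iff] at h1
  refine edge M hM _ hw k b h1.1.1 ?_ (fun j hj => h j (hj.trans h1.1.2))
  rw [π_word p hp, pt_val k h1.1.1, h1.2]

include hM in
theorem edgeD (p : List ℕ) (hp : ∀ x ∈ p, x < 16) (hw : d (pt (scan table p 0)) ∈ M) (k a b : ℕ)
    (h1 : (Nat.blt k 31671 && Nat.beq (lab.get 20 k) a && Nat.beq (lab.get 20 (dScan p k)) b) = true)
    (h : ∀ j : Pt, lab.get 20 j = a → d j ∈ M) : ∀ j : Pt, lab.get 20 j = b → d j ∈ M := by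
  simp only [Bool.and_eq_true, blt_iff, beq_iff] at h1
  refine edge M hM _ hw k b h1.1.1 ?_ (fun j hj => h j (hj.trans h1.1.2))
  rw [π_d p hp, pt_val k h1.1.1, h1.2]

include hM in
theorem top_of_class (c : ℕ) (hc : c ≠ 0) (hc6 : c < 6) (h : ∀ j : Pt, lab.get 20 j = c → d j ∈ M) : M = ⊤ := by
  let A : ℕ → Prop := fun c => ∀ j : Pt, lab.get 20 j = c → d j ∈ M
  have hA0 : A 0 := fun j hj => hM (K0_le (d_mem_K0 j hj))
  have e34 : A 3 → A 4 := edgeW M hM hw1 hw_lt.2.1 (hM h1_mem) 3 3 4 (by decide +kernel)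
  have e54 : A 5 → A 4 := edgeW M hM hw0 hw_lt.1 (hM h0_mem) 17 5 4 (by decide +kernel)
  have e41 : A 4 → A 1 := edgeW M hM hw2 hw_lt.2.2 (hM h2_mem) 16 4 1 (by decide +kernel)
  have e14 : A 1 → A 4 := edgeW M hM hw2 hw_lt.2.2 (hM h2_mem) 1 1 4 (by decide +kernel)
  have e43 : A 4 → A 3 := edgeW M hM hw1 hw_lt.2.1 (hM h1_mem) 16 4 3 (by decide +kernel)
  have e45 : A 4 → A 5 := edgeW M hM hw0 hw_lt.1 (hM h0_mem) 16 4 5 (by decide +kernel)
  have hr1 : ∀ x ∈ r1p, x < 16 := by decide +kernel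
  have hr2 : ∀ x ∈ r2p, x < 16 := by decide +kernel
  have hd : ∀ (p : List ℕ) (a : ℕ), (∀ x ∈ p, x < 16) → Nat.beq (lab.get 20 (scan table p 0)) a = true →
      A a → d (pt (scan table p 0)) ∈ M := fun p a hp h1 ha =>
    ha _ (by rw [pt_val _ (Fi23.scan_lt p hp 0 (by omega))]; exact (beq_iff _ _).1 h1)
  have e12 : A 1 → A 2 := fun h1 => by
    have h3 : A 3 := e43 (e14 h1)
    exact edgeD M hM r1p hr1 (hd r1p 1 hr1 (by decide +kernel) h1) 3 3 2 (by decide +kernel) h3
  have e21 : A 2 → A 1 := fun h2 =>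
    edgeD M hM r2p hr2 (hd r2p 2 hr2 (by decide +kernel) h2) 4 2 1 (by decide +kernel) h2
  have h1 : A 1 := by
    interval_cases c
    · exact absurd rfl hc
    · exact h
    · exact e21 h
    · exact e41 (e34 h)
    · exact e41 h
    · exact e41 (e54 h)
  have hall : ∀ j : Pt, d j ∈ M := fun j => by
    have hj := lab_lt6 j
    generalize hcj : lab.get 20 (j : ℕ) = cj at hj
    interval_cases cj
    · exact hA0 j hcj
    · exact h1 j hcj
    · exact e12 h1 j hcj
    · exact e43 (e14 h1) j hcj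
    · exact e14 h1 j hcj
    · exact e45 (e14 h1) j hcj
  rw [eq_top_iff, ← Fi23.threeClass.2.2, Subgroup.closure_le]
  intro t ht
  obtain ⟨w, rfl⟩ := isConj_iff.mp ht
  show w * z * w⁻¹ ∈ M
  rw [← d_base, d_conj]
  exact hall _

end Max

theorem isCoatom : IsCoatom Hs := by
  refine ⟨fun h => ?_, fun M hlt => ?_⟩
  · obtain ⟨w, hw⟩ := Fi23.transitive (by omega) (pt 2)
    have hm : w ∈ Hs := h ▸ Subgroup.mem_top w
    have h2 := ((mem_Hs w).1 hm base).2 lab_base
    rw [hw, pt_val 2 (by omega)] at h2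
    exact absurd ((beq_iff _ _).2 h2) (by decide +kernel)
  · obtain ⟨hle, w, hwM, hwn⟩ := SetLike.lt_iff_le_and_exists.1 hlt
    rw [mem_Hs] at hwn
    push Not at hwn
    obtain ⟨k, hk⟩ := hwn
    obtain ⟨u, hu, e, he, hne⟩ : ∃ u ∈ M, ∃ e : Pt, lab.get 20 e = 0 ∧ lab.get 20 (π u e : Pt) ≠ 0 := by
      rcases hk with ⟨h1, h2⟩ | ⟨h1, h2⟩
      · refine ⟨w⁻¹, M.inv_mem hwM, π w k, h1, ?_⟩
        rw [← Equiv.Perm.mul_apply, ← map_mul, inv_mul_cancel, map_one, Equiv.Perm.one_apply]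
        exact h2
      · exact ⟨w, hwM, k, h2, h1⟩
    refine top_of_class M hle _ hne (lab_lt6 _) fun j hj => ?_
    obtain ⟨v, hv, hvj⟩ := same_class (π u e) j hj.symm
    rw [← hvj, ← d_conj, ← d_conj]
    exact M.mul_mem (M.mul_mem (hle (K0_le hv))
      (M.mul_mem (M.mul_mem hu (hle (K0_le (d_mem_K0 e he)))) (M.inv_mem hu))) (M.inv_mem (hle (K0_le hv)))

/-! ### The action on the 324-set -/

/-- An index from a number. -/
def fi (n : ℕ) : Fin 324 := if h : n < 324 then ⟨n, h⟩ else ⟨0, by omega⟩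

theorem fi_val (n : ℕ) (h : n < 324) : ((fi n : Fin 324) : ℕ) = n := by simp [fi, h]

/-- The points of the set. -/
noncomputable def evP (i : Fin 324) : Pt := pt (ev.get 20 i)

theorem ev_spec (i : Fin 324) :
    ev.get 20 i < 31671 ∧ lab.get 20 (ev.get 20 i) = 0 ∧ pos.get 9 (ev.get 20 i) = i := by
  have h := allFrom_spec _ _ _ evOK i (Nat.zero_le _) (by omega)
  simp only [pEv, strict_eq, Bool.and_eq_true, blt_iff, beq_iff] at h
  exact ⟨h.1.1, h.1.2, h.2⟩

theorem evP_val (i : Fin 324) : ((evP i : Pt) : ℕ) = ev.get 20 i := pt_val _ (ev_spec i).1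

theorem evP_lab (i : Fin 324) : lab.get 20 (evP i : Pt) = 0 := by rw [evP_val]; exact (ev_spec i).2.1

/-- The index of a point of the set. -/
noncomputable def posF (k : Pt) : Fin 324 := fi (pos.get 9 k)

theorem posF_evP (i : Fin 324) : posF (evP i) = i := by
  unfold posF
  refine Fin.ext ?_
  rw [evP_val, (ev_spec i).2.2, fi_val _ i.2]

theorem evP_injective : Function.Injective evP := fun i j h => by rw [← posF_evP i, h, posF_evP]

theorem evP_posF (k : Pt) (hk : lab.get 20 k = 0) : evP (posF k) = k := by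
  have hp := posOK_ok k k.2
  unfold pPos at hp
  rw [(beq_iff _ _).2 hk] at hp
  simp only [Bool.and_eq_true, blt_iff, beq_iff] at hp
  refine Fin.ext ?_
  rw [evP_val, posF, fi_val _ hp.1, hp.2]

/-- The image of an index. -/
noncomputable def img (w : G) (i : Fin 324) : Fin 324 := posF (π w (evP i))

theorem img_spec (w : G) (hw : w ∈ Hs) (i : Fin 324) : evP (img w i) = π w (evP i) :=
  evP_posF _ (((mem_Hs w).1 hw _).2 (evP_lab i))

/-- The action on the set. -/
noncomputable def φ : Hs →* Equiv.Perm (Fin 324) :=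
  MonoidHom.mk'
    (fun w =>
      { toFun := img w
        invFun := img (w : G)⁻¹
        left_inv := fun i => evP_injective (by
          rw [img_spec _ (Hs.inv_mem w.2), img_spec _ w.2, ← Equiv.Perm.mul_apply, ← map_mul, inv_mul_cancel,
            map_one, Equiv.Perm.one_apply])
        right_inv := fun i => evP_injective (by
          rw [img_spec _ w.2, img_spec _ (Hs.inv_mem w.2), ← Equiv.Perm.mul_apply, ← map_mul, mul_inv_cancel,
            map_one, Equiv.Perm.one_apply]) })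
    (fun a b => Equiv.ext fun i => evP_injective (by
      show evP (img (a * b : Hs) i) = evP (img a (img b i))
      rw [img_spec _ (a * b).2, img_spec _ a.2, img_spec _ b.2, Subgroup.coe_mul, map_mul, Equiv.Perm.mul_apply]))

theorem φ_spec (w : Hs) (i : Fin 324) : evP (φ w i) = π (w : G) (evP i) := img_spec _ w.2 i

theorem kimg_spec (g : ℕ) (hg : g < 5) (i : Fin 324) :
    kimg.get 9 (g * 324 + i) < 324 ∧
      π (d (pt (scan table (kp.getD g []) 0))) (evP i) = evP (fi (kimg.get 9 (g * 324 + i))) := by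
  have h := allFrom_spec _ _ _ kimgOK i (Nat.zero_le _) (by omega)
  have h' := allFrom_spec _ _ _ h g (Nat.zero_le _) (by omega)
  simp only [strict_eq, Bool.and_eq_true, blt_iff, beq_iff] at h'
  refine ⟨h'.1, Fin.ext ?_⟩
  rw [ktab_eq g hg, evP_val, evP_val, fi_val _ h'.1]
  exact h'.2

theorem pair_spec (x y : Fin 324) : pPair x y = true :=
  allFrom_spec _ _ _ (pairOK_ok x x.2) y (Nat.zero_le _) (by omega)

theorem mT_lt (x y : Fin 324) : mT.get 9 ((x : ℕ) * 324 + y) < 324 := by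
  have h := pair_spec x y
  simp only [pPair, strict_eq, Bool.and_eq_true, blt_iff] at h
  exact h.1.1.1

/-- Conjugation among the transpositions of the set. -/
noncomputable def TF (x y : Fin 324) : Fin 324 := fi (mT.get 9 ((x : ℕ) * 324 + y))

theorem TF_spec : ∀ (n : ℕ) (x : Fin 324), tpar.get 24 x >>> 13 = n → ∀ y : Fin 324,
    π (d (evP x)) (evP y) = evP (TF x y) := by
  intro n
  induction n using Nat.strong_induction_on with
  | _ n ih =>
    intro x hn y
    have h := treeOK_ok x x.2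
    unfold pTree at h
    cases hx : Nat.beq (x : ℕ) x0
    · rw [hx] at h
      simp only [strict_eq, Bool.and_eq_true, blt_iff, beq_iff] at h
      obtain ⟨⟨⟨⟨hj, hg⟩, hlt⟩, hx'⟩, hall⟩ := h
      set j := (tpar.get 24 x >>> 3) &&& 1023
      set g := tpar.get 24 x &&& 7
      let J : Fin 324 := ⟨j, hj⟩
      set D := d (pt (scan table (kp.getD g []) 0))
      have hxe : evP x = π D (evP J) := by
        rw [(kimg_spec g hg J).2]
        exact congrArg evP (Fin.ext (by rw [fi_val _ (kimg_spec g hg J).1]; exact hx'.symm))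
      rw [hxe, ← d_conj, map_mul, map_mul, Equiv.Perm.mul_apply, Equiv.Perm.mul_apply, map_inv, ← map_inv, d_inv,
        (kimg_spec g hg y).2, ih _ (hn ▸ hlt) J rfl, (kimg_spec g hg (TF J _)).2]
      refine congrArg evP (Fin.ext ?_)
      rw [fi_val _ (kimg_spec g hg (TF J _)).1]
      simp only [TF]
      rw [fi_val _ (mT_lt _ _), fi_val _ (mT_lt _ _), fi_val _ (kimg_spec g hg y).1]
      have hy := (beq_iff _ _).1 (allFrom_spec _ _ _ hall y (Nat.zero_le _) (by omega))
      exact hy.symm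
    · rw [hx] at h
      have hy := (beq_iff _ _).1 (allFrom_spec _ _ _ h y (Nat.zero_le _) (by omega))
      have hb : evP x = base := Fin.ext (by
        rw [evP_val, (beq_iff _ _).1 hx]
        exact (beq_iff _ _).1 (show Nat.beq (ev.get 20 x0) 0 = true by decide +kernel))
      rw [hb, d_base]
      refine Fin.ext ?_
      rw [π_z, evP_val, evP_val, hy, TF, fi_val _ (mT_lt _ _)]

theorem φ_TF (w : Hs) (x y : Fin 324) : φ w (TF x y) = TF (φ w x) (φ w y) := by
  apply evP_injective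
  rw [φ_spec, ← TF_spec _ x rfl y, ← TF_spec _ (φ w x) rfl (φ w y), φ_spec, φ_spec, ← d_conj, map_mul, map_mul,
    Equiv.Perm.mul_apply, Equiv.Perm.mul_apply, ← Equiv.Perm.mul_apply (π ((w : G)⁻¹)), ← map_mul,
    inv_mul_cancel, map_one, Equiv.Perm.one_apply]

/-- Plane, part and point of an index. -/
def dec : Fin 324 ≃ Idx where
  toFun i := (⟨i.val / 36, by omega⟩, ⟨i.val / 9 % 4, by omega⟩, ⟨i.val % 9, by omega⟩)
  invFun x := ⟨x.1.val * 36 + x.2.1.val * 9 + x.2.2.val, by omega⟩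
  left_inv i := Fin.ext (by simp; omega)
  right_inv x := by
    obtain ⟨⟨c, hc⟩, ⟨p, hp⟩, ⟨a, ha⟩⟩ := x
    refine Prod.ext (Fin.ext ?_) (Prod.ext (Fin.ext ?_) (Fin.ext ?_)) <;> simp <;> omega

theorem oN_eq : ∀ a b : Fin 9, Nat.beq (o a b).val (oN a b) = true := by decide +kernel

theorem iffB_iff (a b : Bool) : iffB a b = true ↔ (a = true ↔ b = true) := by cases a <;> cases b <;> simp [iffB]

theorem pair_dec (x y : Fin 324) :
    (dec (TF x y)).1 = o (dec x).1 (dec y).1 ∧
    (TF x y = y ↔ ((dec x).1 = (dec y).1 ∧ ((dec x).2.1 ≠ (dec y).2.1 ∨ x = y))) ∧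
    ((dec x).1 = (dec y).1 → (dec x).2.1 = (dec y).2.1 →
      dec (TF x y) = ((dec x).1, (dec x).2.1, o (dec x).2.2 (dec y).2.2)) := by
  have h := pair_spec x y
  simp only [pPair, strict_eq, Bool.and_eq_true, blt_iff, beq_iff, iffB_iff, Bool.or_eq_true, Bool.not_eq_true',
    ← Bool.not_eq_true] at h
  obtain ⟨⟨⟨ht, h1⟩, h2⟩, h3⟩ := h
  have e : (TF x y).val = mT.get 9 ((x : ℕ) * 324 + y) := fi_val _ ht
  have o1 := (beq_iff _ _).1 (oN_eq (dec x).1 (dec y).1)
  have o2 := (beq_iff _ _).1 (oN_eq (dec x).2.2 (dec y).2.2)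
  refine ⟨Fin.ext (by rw [o1]; show (TF x y).val / 36 = _; rw [e]; exact h1), ?_, fun a b => ?_⟩
  · rw [Fin.ext_iff, e, h2]
    simp [dec, Fin.ext_iff]
  · have a' : x.val / 36 = y.val / 36 := Fin.ext_iff.1 a
    have b' : x.val / 9 % 4 = y.val / 9 % 4 := Fin.ext_iff.1 b
    have h3' : (TF x y).val = x.val / 9 * 9 + (o (dec x).2.2 (dec y).2.2).val := by
      rw [e, o2]
      exact h3.resolve_left (fun hn => hn ⟨a', b'⟩)
    apply dec.symm.injective
    rw [Equiv.symm_apply_apply]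
    refine Fin.ext ?_
    show (TF x y).val = x.val / 36 * 36 + x.val / 9 % 4 * 9 + (o (dec x).2.2 (dec y).2.2).val
    omega

theorem solvable_range : Group.IsSolvable φ.range := by
  let T : Idx → Idx → Idx := fun x y => dec (TF (dec.symm x) (dec.symm y))
  have hsol : Group.IsSolvable (magAut T) := by
    refine isSolvable_magAut T (fun x y => ?_) (fun x y => ?_) (fun x y a b => ?_)
    · simpa using (pair_dec (dec.symm x) (dec.symm y)).1
    · have := (pair_dec (dec.symm x) (dec.symm y)).2.1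
      simp only [Equiv.apply_symm_apply, EmbeddingLike.apply_eq_iff_eq] at this
      show dec _ = y ↔ _
      rw [← Equiv.eq_symm_apply, this]
    · simpa using (pair_dec (dec.symm x) (dec.symm y)).2.2 (by simpa using a) (by simpa using b)
  let e : Equiv.Perm (Fin 324) ≃* Equiv.Perm Idx := Equiv.permCongrHom dec
  let θ : φ.range →* magAut T := (e.toMonoidHom.comp φ.range.subtype).codRestrict _ (by
    rintro ⟨σ, w, rfl⟩
    rw [mem_magAut]
    intro x y
    show dec (φ w (dec.symm (dec (TF (dec.symm x) (dec.symm y))))) =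
      dec (TF (dec.symm (dec (φ w (dec.symm x)))) (dec.symm (dec (φ w (dec.symm y)))))
    simp only [Equiv.symm_apply_apply]
    rw [φ_TF])
  exact Group.isSolvable_of_isSolvable_injective (f := θ) fun a b h =>
    Subtype.ext (e.injective (congrArg Subtype.val h))

/-! ### The kernel -/

theorem ker_fix (κ : φ.ker) (k : Pt) (hk : lab.get 20 k = 0) : π ((κ : Hs) : G) k = k := by
  rw [← evP_posF k hk, ← φ_spec, MonoidHom.mem_ker.1 κ.2, Equiv.Perm.one_apply]

theorem ker_comm_d (κ : φ.ker) (k : Pt) (hk : lab.get 20 k = 0) : Commute ((κ : Hs) : G) (d k) := by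
  have h := d_conj ((κ : Hs) : G) k
  rw [ker_fix κ k hk, mul_inv_eq_iff_eq_mul] at h
  exact h

theorem ker_comm_K0 (κ : φ.ker) (u : G) (hu : u ∈ K0) : Commute ((κ : Hs) : G) u := by
  have hle : K0 ≤ Subgroup.centralizer {((κ : Hs) : G)} := by
    refine (Subgroup.closure_le _).mpr ?_
    rintro _ ⟨j, hj, rfl⟩
    rw [SetLike.mem_coe, Subgroup.mem_centralizer_singleton_iff]
    refine (ker_comm_d κ _ ?_).symm.eq
    rw [pt_val _ (Fi23.scan_lt _ (kp_lt j hj) 0 (by omega))]
    exact (beq_iff _ _).1 (kp_lab j hj)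
  exact ((Subgroup.mem_centralizer_singleton_iff.mp (hle hu))).symm

theorem commute_fix {a b : G} (h : Commute a b) {k : Pt} (hk : π b k = k) : π b (π a k) = π a k := by
  rw [← Equiv.Perm.mul_apply, ← map_mul, ← h.eq, map_mul, Equiv.Perm.mul_apply, hk]

theorem anyMoves_false (k : ℕ) : ∀ l : List (List ℕ), (∀ p ∈ l, dScan p k = k) → anyMoves k l = false := by
  intro l
  induction l with
  | nil => intro _; rfl
  | cons p l ih =>
    intro h
    show Bool.rec (motive := fun _ => Bool) true (anyMoves k l) (Nat.beq (dScan p k) k) = false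
    rw [(beq_iff _ _).2 (h p (List.mem_cons_self ..))]
    exact ih fun q hq => h q (List.mem_cons_of_mem _ hq)

/-- Checks on a representative and its fixing transpositions. -/
noncomputable def fixerOK (l : List (List ℕ)) (u : List ℕ) (r a b c : ℕ) : Bool :=
  (l.all fun p => p.all (fun x => Nat.blt x 16) && Nat.beq (lab.get 20 (scan table p 0)) 0 && Nat.beq (dScan p r) r) &&
    Nat.blt r 31671 && Nat.blt a 31671 && Nat.blt b 31671 && Nat.beq (lab.get 20 r) c && Nat.beq (zCol.get 20 r) r &&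
    u.all (fun x => Nat.blt x 5) && Nat.beq (scan ktab u r) a && Nat.beq (scan ktab u a) b

theorem class_comm (l : List (List ℕ)) (u : List ℕ) (r a b c : ℕ) (hOK : fixerOK l u r a b c = true)
    (hfix : ∀ k < 31671, pFix l r a b k = true) (κ μ : φ.ker) (k : Pt) (hk : lab.get 20 k = c) :
    π ((κ : Hs) : G) (π ((μ : Hs) : G) k) = π ((μ : Hs) : G) (π ((κ : Hs) : G) k) := by
  simp only [fixerOK, Bool.and_eq_true, blt_iff, beq_iff, List.all_eq_true] at hOK
  obtain ⟨⟨⟨⟨⟨⟨⟨⟨hl, hr⟩, ha⟩, hb⟩, hc⟩, hz⟩, hu⟩, hua⟩, hub⟩ := hOK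
  obtain ⟨U, hU, hUk⟩ := realised_scan π realised u hu
  have hUr : π U (pt r) = pt a := Fin.ext (by rw [hUk, pt_val _ hr, pt_val _ ha, hua])
  have hUa : π U (pt a) = pt b := Fin.ext (by rw [hUk, pt_val _ ha, pt_val _ hb, hub])
  have key : ∀ ν : φ.ker, ∃ i : ℕ, π ((ν : Hs) : G) (pt r) = π (U ^ i) (pt r) := by
    intro ν
    have hfz : zCol.get 20 (π ((ν : Hs) : G) (pt r) : Pt) = (π ((ν : Hs) : G) (pt r) : Pt) := by
      have h0 : π z (pt r) = pt r := Fin.ext (by rw [π_z, pt_val _ hr, hz])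
      have := congrArg Fin.val (commute_fix (d_base ▸ ker_comm_d ν base lab_base) h0)
      rwa [π_z] at this
    have hp : ∀ p ∈ l, dScan p (π ((ν : Hs) : G) (pt r) : Pt) = (π ((ν : Hs) : G) (pt r) : Pt) := by
      intro p hp
      obtain ⟨⟨hp16, hp0⟩, hpr⟩ := hl p hp
      have hlab : lab.get 20 (pt (scan table p 0) : Pt) = 0 := by
        rw [pt_val _ (Fi23.scan_lt p hp16 0 (by omega))]; exact hp0
      have h0 : π (d (pt (scan table p 0))) (pt r) = pt r := Fin.ext (by rw [π_d p hp16, pt_val _ hr, hpr])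
      have := congrArg Fin.val (commute_fix (ker_comm_d ν _ hlab) h0)
      rwa [π_d p hp16] at this
    have h := hfix _ (π ((ν : Hs) : G) (pt r)).2
    unfold pFix at h
    rw [(beq_iff _ _).2 hfz, anyMoves_false _ _ hp] at h
    simp only [Bool.or_false, Bool.or_eq_true, beq_iff] at h
    rcases h with (h | h) | h
    · exact ⟨0, Fin.ext (by rw [h, pow_zero, map_one, Equiv.Perm.one_apply, pt_val _ hr])⟩
    · exact ⟨1, Fin.ext (by rw [h, pow_one, hUr, pt_val _ ha])⟩
    · exact ⟨2, Fin.ext (by rw [h, pow_two, map_mul, Equiv.Perm.mul_apply, hUr, hUa, pt_val _ hb])⟩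
  have comm_apply : ∀ {x y : G}, Commute x y → ∀ q : Pt, π x (π y q) = π y (π x q) := fun {x y} h q => by
    rw [← Equiv.Perm.mul_apply, ← map_mul, h.eq, map_mul, Equiv.Perm.mul_apply]
  obtain ⟨i, hi⟩ := key κ
  obtain ⟨j, hj⟩ := key μ
  obtain ⟨h, hh, hhk⟩ := same_class (pt r) k (by rw [pt_val _ hr, hc, hk])
  rw [← hhk, comm_apply (ker_comm_K0 μ h hh), comm_apply (ker_comm_K0 κ h hh), comm_apply (ker_comm_K0 κ h hh),
    comm_apply (ker_comm_K0 μ h hh)]
  refine congrArg (π h) ?_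
  rw [hj, comm_apply (ker_comm_K0 κ _ (K0.pow_mem hU j)), hi, comm_apply (ker_comm_K0 μ _ (K0.pow_mem hU i)), hj,
    ← Equiv.Perm.mul_apply, ← map_mul, ← Equiv.Perm.mul_apply, ← map_mul, ← pow_add, ← pow_add, Nat.add_comm]

end CfsgLib.Fi23Max
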