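import Cfsg.Agent.Lib.Fi23Max.Dag

/-!
The ninth derived subgroup of the stabiliser is not perfect.
-/

set_option autoImplicit false

set_option linter.all false

namespace CfsgLib.Fi23Max

open CfsgLib.CosetEnum
open CfsgLib.CosetEnum.Fi23 (table zCol)

open CfsgLib.CosetEnum.Fi23 (π)

theorem ker_commute (κ μ : φ.ker) : Commute ((κ : Hs) : Cfsg.Spor.Fi23) ((μ : Hs) : Cfsg.Spor.Fi23) := by
  refine Fi23.injective (Equiv.ext fun k => ?_)
  rw [map_mul, map_mul, Equiv.Perm.mul_apply, Equiv.Perm.mul_apply]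
  generalize hk : lab.get 20 (k : ℕ) = c
  have hc : c < 6 := hk ▸ lab_lt6 k
  interval_cases c
  · rw [ker_fix μ k hk, ker_fix κ k hk, ker_fix μ k hk]
  · exact class_comm fix1 [4, 0, 1, 2, 1, 3, 0, 4] 249 1237 2146 1 (by decide +kernel) fixOK1_ok κ μ k hk
  · exact class_comm fix2 [4, 2, 3, 0, 1, 4, 3, 2, 1, 0, 4] 202 1969 2354 2 (by decide +kernel) fixOK2_ok κ μ k hk
  · exact class_comm fix3 [1, 3, 4, 0, 1, 2, 3, 4] 620 15335 17551 3 (by decide +kernel) fixOK3_ok κ μ k hk
  · exact class_comm fix4 [1, 0, 3, 0, 4, 0, 1, 3] 621 5492 16531 4 (by decide +kernel) fixOK4_ok κ μ k hk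
  · exact class_comm fix5 [2, 1, 4, 1, 2, 3] 287 14309 22087 5 (by decide +kernel) fixOK5_ok κ μ k hk

theorem isSolvable_Hs : Group.IsSolvable Hs := by
  haveI := solvable_range
  letI : CommGroup φ.ker :=
    { (inferInstance : Group φ.ker) with
      mul_comm := fun a b => Subtype.ext (Subtype.ext (ker_commute a b).eq) }
  haveI : Group.IsSolvable φ.ker := inferInstance
  exact isSolvable_of_hom φ.rangeRestrict solvable_range (by rw [MonoidHom.ker_rangeRestrict]; infer_instance)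

theorem lift_word {p : Tr} (w : List ℕ) (hn : Node 8 p)
    (h : (w.all (fun x => Nat.blt x 5) && allFrom (fun j => Nat.beq (ev.get 20 (p.get 9 j)) (scan ktab w (ev.get 20 j))) 324 0) = true) :
    ∃ x ∈ derivedSeries Hs 8, ∃ u ∈ K0, (∀ k : Pt, ((π u k : Pt) : ℕ) = scan ktab w k) ∧
      ∃ κ : φ.ker, (x : Cfsg.Spor.Fi23) = u * ((κ : Hs) : Cfsg.Spor.Fi23) := by
  simp only [Bool.and_eq_true, List.all_eq_true, blt_iff] at h
  obtain ⟨x, hx, hxp⟩ := hn
  obtain ⟨u, hu, huk⟩ := realised_scan π realised w h.1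
  have heq : φ ⟨u, K0_le hu⟩ = φ x := by
    refine Equiv.ext fun j => evP_injective (Fin.ext ?_)
    rw [φ_spec, huk, evP_val, evP_val, hxp]
    exact ((beq_iff _ _).1 (allFrom_spec _ _ _ h.2 j (Nat.zero_le _) (by omega))).symm
  refine ⟨x, hx, u, hu, huk, ⟨(⟨u, K0_le hu⟩ : Hs)⁻¹ * x, ?_⟩, ?_⟩
  · rw [MonoidHom.mem_ker, map_mul, map_inv, heq, inv_mul_cancel]
  · simp

theorem derived_nine : derivedSeries Hs 9 ≠ ⊥ := by
  obtain ⟨x, hx, u, hu, huk, κ, hxe⟩ := lift_word uw n55 (by decide +kernel)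
  obtain ⟨y, hy, v, hv, hvk, μ, hye⟩ := lift_word vw n66 (by decide +kernel)
  intro hbot
  have hm : x * y * x⁻¹ * y⁻¹ ∈ derivedSeries Hs 9 := by
    rw [← commutatorElement_def]; exact Subgroup.commutator_mem_commutator hx hy
  rw [hbot, Subgroup.mem_bot] at hm
  have hxy : (x : Cfsg.Spor.Fi23) * (y : Cfsg.Spor.Fi23) = (y : Cfsg.Spor.Fi23) * (x : Cfsg.Spor.Fi23) := by
    rw [← Subgroup.coe_mul, ← Subgroup.coe_mul]
    refine congrArg Subtype.val ?_
    calc x * y = (x * y * x⁻¹ * y⁻¹) * (y * x) := by group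
      _ = y * x := by rw [hm, one_mul]
  rw [hxe, hye] at hxy
  set a := ((κ : Hs) : Cfsg.Spor.Fi23)
  set b := ((μ : Hs) : Cfsg.Spor.Fi23)
  have e : u * v * (a * b) = v * u * (a * b) := by
    calc u * v * (a * b) = u * (v * a) * b := by group
      _ = u * (a * v) * b := by rw [(ker_comm_K0 κ v hv).eq]
      _ = (u * a) * (v * b) := by group
      _ = (v * b) * (u * a) := hxy
      _ = v * (b * u) * a := by group
      _ = v * (u * b) * a := by rw [(ker_comm_K0 μ u hu).eq]
      _ = v * u * (b * a) := by group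
      _ = v * u * (a * b) := by rw [(ker_commute κ μ).eq]
  have hp := congrArg (fun s => ((π s (pt 1) : Pt) : ℕ)) (mul_right_cancel e)
  simp only [map_mul, Equiv.Perm.mul_apply, huk, hvk, pt_val 1 (by omega), ← scan_append] at hp
  exact absurd ((beq_iff _ _).2 hp) (by decide +kernel)

theorem derived_ne : derivedSeries Hs 10 ≠ derivedSeries Hs 9 := by
  intro h
  have hst : ∀ k, derivedSeries Hs (9 + k) = derivedSeries Hs 9 := by
    intro k
    induction k with
    | zero => rfl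
    | succ k ih => rw [← Nat.add_assoc, derivedSeries_succ, ih, ← derivedSeries_succ]; exact h
  obtain ⟨n, hn⟩ := (Group.isSolvable_def _).1 isSolvable_Hs
  refine derived_nine ?_
  rw [← hst n, eq_bot_iff]
  exact le_trans (derivedSeries_antitone Hs (Nat.le_add_left n 9)) (le_of_eq hn)

end CfsgLib.Fi23Max
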