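import Cfsg.Agent.Lib.Fi23Max.DataD

set_option autoImplicit false

set_option linter.all false

namespace CfsgLib.Fi23Max

open CfsgLib.CosetEnum
open CfsgLib.CosetEnum.Fi23 (table zCol)

theorem kcolOK_0 : allFrom (fun k => pK k) 1024 0 = true := by decide +kernel

theorem kcolOK_1024 : allFrom (fun k => pK k) 1024 1024 = true := by decide +kernel

theorem kcolOK_2048 : allFrom (fun k => pK k) 1024 2048 = true := by decide +kernel

theorem kcolOK_3072 : allFrom (fun k => pK k) 1024 3072 = true := by decide +kernel

theorem kcolOK_4096 : allFrom (fun k => pK k) 1024 4096 = true := by decide +kernel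

theorem kcolOK_5120 : allFrom (fun k => pK k) 1024 5120 = true := by decide +kernel

theorem kcolOK_6144 : allFrom (fun k => pK k) 1024 6144 = true := by decide +kernel

theorem kcolOK_7168 : allFrom (fun k => pK k) 1024 7168 = true := by decide +kernel

end CfsgLib.Fi23Max
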